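import Groth.Prelude.Def_RelProj
import Groth.Prelude.Def_LogNCD
import Groth.Prelude.Def_Pi1
import Mathlib.RingTheory.RingHom.Smooth
import Mathlib.Algebra.MonoidAlgebra.Basic
import Mathlib.AlgebraicGeometry.Morphisms.Smooth
import Mathlib.AlgebraicGeometry.IdealSheaf.Functorial

/-!
# S19921 project (resolution of singularities in characteristic zero): interface between the nodes

`W K n` (dimension `n`): every integral projective `K`-scheme of dimension `n` with a proper closed subset `Z`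
has a projective birational modification which is smooth over `K` and in which the preimage of `Z` lies in a
strict normal crossing family.

* NodeA (fibration, Belyi trick): helper124, helper138, helper73
* NodeB (separation of sections): helper284
* NodeC (Kummer type charts by Abhyankar): helper891, helper88
* NodeD (toroidal resolution): helper84
* `W K 0`, `W K n → W K (n+1)` from the nodes, S19921, S18520: assembly.
-/

universe u

open CategoryTheory AlgebraicGeometry

namespace K84.Iface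

variable (K : Type u) [Field K]

/-- an isomorphism over some non-empty open of the target -/
def IsBir {X' X : Scheme.{u}} (φ : X' ⟶ X) : Prop :=
  ∃ V : X.Opens, (V : Set X).Nonempty ∧ IsIso (φ ∣_ V)

/-- the union of the supports of a family of ideal sheaves -/
def supp {X : Scheme.{u}} {ι : Type} (D : ι → X.IdealSheafData) : Set X := ⋃ i, ((D i).support : Set X)

/-- the union of the images of a family of sections -/
def img {Y P : Scheme.{u}} {N : ℕ} (s : Fin N → (Y ⟶ P)) : Set P := ⋃ j, Set.range (s j)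

/-- `W(n)` -/
def W (n : ℕ) : Prop :=
  ∀ (X : Scheme.{u}) (p : X ⟶ Spec (CommRingCat.of K)), IsIntegral X → RelProj.IsHProjective p →
    topologicalKrullDim X = n → ∀ Z : Set X, IsClosed Z → Z ≠ Set.univ →
    ∃ (X₁ : Scheme.{u}) (φ : X₁ ⟶ X) (r : ℕ) (D : Fin r → X₁.IdealSheafData),
      IsIntegral X₁ ∧ RelProj.IsHProjective (φ ≫ p) ∧ IsBir φ ∧ Smooth (φ ≫ p) ∧
      LogNCD.IsNCD D (φ ≫ p) ∧ φ ⁻¹' Z ⊆ supp D

/-- **Node A(n)**: `Y` of dimension `n` (it will be `P^n`), `q : P ⟶ Y` smooth projective of relative dimension one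
(it will be `P(O ⊕ O(e))`), `s j` distinct sections (one of them the section at infinity), `X₁ → X` projective
birational, `X₁` normal, `g : X₁ → P` finite surjective and etale off the sections, the preimage of `Z` lying over
the sections. -/
def NodeA (n : ℕ) : Prop :=
  ∀ (X : Scheme.{u}) (p : X ⟶ Spec (CommRingCat.of K)), IsIntegral X → RelProj.IsHProjective p →
    topologicalKrullDim X = ((n + 1 : ℕ) : WithBot ℕ∞) → ∀ Z : Set X, IsClosed Z → Z ≠ Set.univ →
    ∃ (Y P X₁ : Scheme.{u}) (y : Y ⟶ Spec (CommRingCat.of K)) (q : P ⟶ Y) (N : ℕ) (s : Fin N → (Y ⟶ P))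
      (φ : X₁ ⟶ X) (g : X₁ ⟶ P) (U : P.Opens),
      IsIntegral Y ∧ topologicalKrullDim Y = n ∧ RelProj.IsHProjective y ∧
      IsIntegral P ∧ SmoothOfRelativeDimension 1 q ∧ RelProj.IsHProjective q ∧
      (∀ j, s j ≫ q = 𝟙 Y) ∧ Function.Injective s ∧
      IsIntegral X₁ ∧ Pi1.IsNormalScheme X₁ ∧ RelProj.IsHProjective (φ ≫ p) ∧ IsBir φ ∧
      g ≫ q ≫ y = φ ≫ p ∧ IsFinite g ∧ Surjective g ∧
      (U : Set P) = (img s)ᶜ ∧ Etale (g ∣_ U) ∧ φ ⁻¹' Z ⊆ g ⁻¹' (img s)

/-- **Node B** (separation of sections): any field, any relative smooth projective curve with sections which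
coincide only over the strict normal crossing family `D` of the base. -/
def NodeB : Prop :=
  ∀ (Y P : Scheme.{u}) (y : Y ⟶ Spec (CommRingCat.of K)) (q : P ⟶ Y), IsIntegral Y → IsIntegral P →
    RelProj.IsHProjective y → Smooth y → SmoothOfRelativeDimension 1 q → RelProj.IsHProjective q →
    ∀ (r : ℕ) (D : Fin r → Y.IdealSheafData), LogNCD.IsNCD D y →
    ∀ (N : ℕ) (s : Fin N → (Y ⟶ P)), (∀ j, s j ≫ q = 𝟙 Y) →
      (∀ i j, i ≠ j → (s i) ⁻¹' (Set.range (s j)) ⊆ supp D) →
    ∃ (P₁ : Scheme.{u}) (b : P₁ ⟶ P) (r' : ℕ) (D' : Fin r' → P₁.IdealSheafData),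
      IsIntegral P₁ ∧ RelProj.IsHProjective (b ≫ q ≫ y) ∧ IsBir b ∧ Smooth (b ≫ q ≫ y) ∧
      LogNCD.IsNCD D' (b ≫ q ≫ y) ∧ b ⁻¹' (img s ∪ q ⁻¹' (supp D)) ⊆ supp D'

/-- the structure map of the sections over `U` -/
noncomputable def kmap {K : Type u} [Field K] {X : Scheme.{u}} (p : X ⟶ Spec (CommRingCat.of K)) (U : X.Opens) :
    K →+* Γ(X, U) :=
  ((Scheme.ΓSpecIso (CommRingCat.of K)).inv ≫ p.appLE ⊤ U (by simp)).hom

/-- the monoid of the nonnegative vectors of a lattice -/
def pos {I : Type} (M : AddSubgroup (I → ℤ)) : AddSubmonoid (I → ℤ) where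
  carrier := {m | m ∈ M ∧ ∀ i, 0 ≤ m i}
  zero_mem' := ⟨M.zero_mem, fun _ => le_rfl⟩
  add_mem' := fun ha hb => ⟨M.add_mem ha.1 hb.1, fun i => add_nonneg (ha.2 i) (hb.2 i)⟩

open Classical in
/-- the vector `n e_i` -/
noncomputable def ax {I : Type} (i : I) (n : ℤ) : I → ℤ := Pi.single i n

theorem ax_self {I : Type} (i : I) (n : ℤ) : ax i n i = n := by simp [ax]

theorem ax_ne {I : Type} {i j : I} (h : j ≠ i) (n : ℤ) : ax i n j = 0 := by simp [ax, h]

theorem ax_nonneg {I : Type} (i : I) {n : ℤ} (hn : 0 ≤ n) (j : I) : 0 ≤ ax i n j := by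
  by_cases h : j = i
  · subst h; rwa [ax_self]
  · rw [ax_ne h]

/-- A Kummer-toroidal chart of `(X, F)` on the affine open `U`: a finite set `I` of labels, a lattice `M` in `ℤ^I`
(of finite index: `d i • e_i ∈ M`; every coordinate is onto), and a smooth homomorphism
`K[Q] → Γ(X, U)`, `Q = M ∩ ℕ^I`, such that `F_i` is generated by the image of `x^(d_i e_i)` for `i ∈ I`, and
`F_j` is the unit ideal on `U` for `j ∉ I`. -/
structure Chart {K : Type u} [Field K] {X : Scheme.{u}} (p : X ⟶ Spec (CommRingCat.of K)) {ι : Type}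
    (F : ι → X.IdealSheafData) (U : X.affineOpens) where
  I : Finset ι
  M : AddSubgroup (I → ℤ)
  d : I → ℕ
  d_pos : ∀ i, 0 < d i
  d_mem : ∀ i, ax i (d i : ℤ) ∈ M
  onto : ∀ i, ∃ m ∈ M, m i = 1
  ψ : AddMonoidAlgebra K (pos M) →+* Γ(X, U)
  ψ_k : ∀ c : K, ψ (AddMonoidAlgebra.single 0 c) = kmap p U c
  smooth : ψ.Smooth
  ideal_mem : ∀ i : I, (F i).ideal U =
    Ideal.span {ψ (AddMonoidAlgebra.single ⟨ax i (d i : ℤ), d_mem i, ax_nonneg i (by positivity)⟩ 1)}
  ideal_notMem : ∀ j ∉ I, (F j).ideal U = ⊤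

/-- `(X, F)` is Kummer-toroidal -/
def IsKT {K : Type u} [Field K] {X : Scheme.{u}} (p : X ⟶ Spec (CommRingCat.of K)) {ι : Type}
    (F : ι → X.IdealSheafData) : Prop :=
  ∀ x : X, ∃ U : X.affineOpens, x ∈ U.1 ∧ Nonempty (Chart p F U)

/-- **Node C** (Abhyankar): `P` smooth over `K` (char 0), `D` a strict normal crossing family, `g : X → P` finite,
`X` normal integral, `g` dominant and etale off `D`; then `X` with the pullbacks of the `D i` is Kummer-toroidal. -/
def NodeC : Prop :=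
  ∀ (P X : Scheme.{u}) (p : P ⟶ Spec (CommRingCat.of K)) (g : X ⟶ P), IsIntegral P → IsIntegral X →
    Pi1.IsNormalScheme X → Smooth p → QuasiCompact p → IsSeparated p → IsFinite g → Surjective g →
    ∀ (r : ℕ) (D : Fin r → P.IdealSheafData), LogNCD.IsNCD D p →
    ∀ U : P.Opens, (U : Set P) = (supp D)ᶜ → Etale (g ∣_ U) →
    IsKT (g ≫ p) (fun i => (D i).comap g)

/-- **Node D** (toroidal resolution) -/
def NodeD : Prop :=
  ∀ (X : Scheme.{u}) (p : X ⟶ Spec (CommRingCat.of K)), IsIntegral X → RelProj.IsHProjective p →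
    ∀ (r : ℕ) (F : Fin r → X.IdealSheafData), IsKT p F →
    ∃ (X₁ : Scheme.{u}) (φ : X₁ ⟶ X) (r' : ℕ) (D : Fin r' → X₁.IdealSheafData),
      IsIntegral X₁ ∧ RelProj.IsHProjective (φ ≫ p) ∧ IsBir φ ∧ Smooth (φ ≫ p) ∧
      LogNCD.IsNCD D (φ ≫ p) ∧ φ ⁻¹' (supp F) = supp D

end K84.Iface
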