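import Groth.Agent.Resolve.K84.DParts
import Groth.Agent.Resolve.K588.Bir
import Groth.Agent.Resolve.K588.HProj
import Groth.Agent.Resolve.K372.NormFac
import Groth.Agent.Resolve.K375.NagNorm
import Groth.Agent.Sga67.BlowAmple
import Groth.Agent.Flat2C.BlowExist
import Groth.Agent.Flat2C.BlowProper
import Groth.Agent.CurvesC.Modif
import Groth.Agent.Dix.InterSurf
import Groth.Agent.FlatMor.K265.GenIso
import Groth.Agent.S1626

/-!
# The normalized blow-up of a normal projective variety: existence and universal property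

`main : K84.DParts.NBEx K`.
-/

set_option autoImplicit false
universe u

open CategoryTheory CategoryTheory.Limits AlgebraicGeometry TopologicalSpace

namespace K84.NormBlow

open K84.Iface K84.DParts Groth.Agent

/-- Morphisms into a birational separated scheme are determined generically. -/
theorem hom_ext {T X₁ X : Scheme.{u}} [IsIntegral T] (φ : X₁ ⟶ X) [IsSeparated φ] (V : X.Opens)
    (hV : IsIso (φ ∣_ V)) (h h' : T ⟶ X₁) (e : h ≫ φ = h' ≫ φ) (t : T) (ht : (h ≫ φ) t ∈ V) : h = h' := by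
  let W : T.Opens := (h ≫ φ) ⁻¹ᵁ V
  have hne : Nonempty W := ⟨⟨t, ht⟩⟩
  have hdom : IsDominant W.ι := ⟨by
    rw [DenseRange, Scheme.Opens.range_ι]
    exact W.2.dense ⟨t, ht⟩⟩
  refine ext_of_isDominant_of_isSeparated φ e W.ι ?_
  have h1 : Set.range (W.ι ≫ h) ⊆ Set.range (φ ⁻¹ᵁ V).ι := by
    rw [Scheme.Opens.range_ι]
    rintro _ ⟨x, rfl⟩
    exact x.2
  have h2 : Set.range (W.ι ≫ h') ⊆ Set.range (φ ⁻¹ᵁ V).ι := by
    rw [Scheme.Opens.range_ι]
    rintro _ ⟨x, rfl⟩
    change (h' ≫ φ) x.1 ∈ V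
    rw [← e]
    exact x.2
  rw [← IsOpenImmersion.lift_fac (φ ⁻¹ᵁ V).ι (W.ι ≫ h) h1, ← IsOpenImmersion.lift_fac (φ ⁻¹ᵁ V).ι (W.ι ≫ h') h2]
  congr 1
  have h3 : IsOpenImmersion.lift (φ ⁻¹ᵁ V).ι (W.ι ≫ h) h1 ≫ (φ ∣_ V) =
      IsOpenImmersion.lift (φ ⁻¹ᵁ V).ι (W.ι ≫ h') h2 ≫ (φ ∣_ V) := by
    rw [← cancel_mono V.ι]
    simp only [Category.assoc, morphismRestrict_ι, IsOpenImmersion.lift_fac_assoc]
    rw [e]
  exact (cancel_mono (φ ∣_ V)).1 h3

theorem compl_support_nonempty {X : Scheme.{u}} [IsReduced X] {J : X.IdealSheafData} (hJ : J ≠ ⊥) :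
    ((J.support.compl : X.Opens) : Set X).Nonempty := by
  by_contra hcon
  apply hJ
  rw [← Scheme.IdealSheafData.support_eq_top_iff]
  ext x
  simp only [TopologicalSpace.Closeds.coe_top, Set.mem_univ, iff_true]
  by_contra hx
  exact hcon ⟨x, hx⟩

/-- A birational separated morphism with a section over an open is an isomorphism over it. -/
theorem isIso_restrict_of_section {X₁ X : Scheme.{u}} [IsIntegral X₁] (φ : X₁ ⟶ X) [IsSeparated φ]
    [IrreducibleSpace X] (hbir : IsBir φ) (V : X.Opens) (hVne : (V : Set X).Nonempty)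
    (s : (V : Scheme.{u}) ⟶ X₁) (hs : s ≫ φ = V.ι) :
    IsIso (φ ∣_ V) := by
  obtain ⟨O, hO, hOi⟩ := hbir
  have hr : Set.range s ⊆ Set.range (φ ⁻¹ᵁ V).ι := by
    rw [Scheme.Opens.range_ι]
    rintro _ ⟨x, rfl⟩
    change (s ≫ φ) x ∈ V
    rw [hs]
    exact x.2
  let s' : (V : Scheme.{u}) ⟶ (φ ⁻¹ᵁ V : X₁.Opens) := IsOpenImmersion.lift (φ ⁻¹ᵁ V).ι s hr
  have hs' : s' ≫ (φ ⁻¹ᵁ V).ι = s := IsOpenImmersion.lift_fac _ _ _
  have e1 : s' ≫ (φ ∣_ V) = 𝟙 _ := by
    rw [← cancel_mono V.ι, Category.assoc, morphismRestrict_ι, reassoc_of% hs', hs, Category.id_comp]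
  -- a point of `φ⁻¹ V` over `O`
  obtain ⟨y, hyV, hyO⟩ := nonempty_preirreducible_inter V.2 O.2 hVne hO
  obtain ⟨x, hx⟩ := K588.Bir.exists_of_isIso_restrict φ hOi hyO
  have hxV : x ∈ φ ⁻¹ᵁ V := by change φ x ∈ V; rw [hx]; exact hyV
  have hne : Nonempty (φ ⁻¹ᵁ V : X₁.Opens) := ⟨⟨x, hxV⟩⟩
  have e2 : (φ ∣_ V) ≫ s = (φ ⁻¹ᵁ V).ι := by
    refine hom_ext φ O hOi _ _ ?_ ⟨x, hxV⟩ ?_
    · rw [Category.assoc, hs, morphismRestrict_ι]
    · rw [Category.assoc, hs, morphismRestrict_ι]
      change φ x ∈ O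
      rw [hx]; exact hyO
  refine ⟨s', ?_, e1⟩
  rw [← cancel_mono (φ ⁻¹ᵁ V).ι, Category.assoc, hs', e2, Category.id_comp]

theorem isNormalScheme_opens {X : Scheme.{u}} (hX : Pi1.IsNormalScheme X) (V : X.Opens) :
    Pi1.IsNormalScheme (V : Scheme.{u}) := fun x => by
  obtain ⟨h1, h2⟩ := hX x.1
  let e : X.presheaf.stalk x.1 ≃+* (V : Scheme.{u}).presheaf.stalk x :=
    (asIso (V.ι.stalkMap x)).commRingCatIsoToRingEquiv
  have h3 : IsDomain ((V : Scheme.{u}).presheaf.stalk x) := e.symm.toMulEquiv.isDomain _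
  exact ⟨h3, IsIntegrallyClosed.of_equiv e⟩

theorem isEff_of_top {X : Scheme.{u}} {J : X.IdealSheafData} (h : J = ⊤) : BlowUp.IsEffCartierIdeal J := by
  subst h
  intro x
  obtain ⟨U, hU, hx, -⟩ := exists_isAffineOpen_mem_and_subset (X := X) (x := x) (U := ⊤) trivial
  refine ⟨⟨U, hU⟩, hx, 1, one_mem _, ?_⟩
  simp

/-- **Existence of normalized blow-ups** (D1). -/
theorem main (K : Type u) [Field K] : NBEx K := by
  intro X p hX hn hp J hJ
  have hproper := K588.HProj.isProper hp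
  obtain ⟨-, L, hL⟩ := (K588.HProj.iff_ample p).1 hp
  have hlN : IsLocallyNoetherian X := LocallyOfFiniteType.isLocallyNoetherian p
  have hft : BlowUp.IsFiniteTypeIdeal J := fun U => by
    have : IsNoetherianRing Γ(X, U.1) := IsLocallyNoetherian.component_noetherian U
    exact IsNoetherian.noetherian _
  obtain ⟨B, b, hb⟩ := Flat2C.BlowExist.exists_isBlowUp (𝓘 := J)
  have hbp : IsProper b := Flat2C.BlowProper.isProper_of_isBlowUp hb hft
  have hbm := CurvesC.Modif.IsModif.of_isBlowUp hJ hft hb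
  have hB : IsIntegral B := hbm.integral
  obtain ⟨M, hM⟩ := Sga67.BlowAmple.exists_isAmple hb L hL
  have hBp : RelProj.IsHProjective (b ≫ p) := (K588.HProj.iff_ample _).2 ⟨inferInstance, M, hM⟩
  have hNag : K375.NagSch.IsNag B := K375.NagSch.isNag_of_locallyOfFiniteType (b ≫ p)
    (K375.NagSch.isNag_Spec (A := CommRingCat.of K) (S1626.isNagata_field K))
  have hqc : ∀ (T : Scheme.{u}) [IsIntegral T], QuasiCompact (T.fromSpecStalk (genericPoint T)) := fun T _ =>
    K265.GenIso.quasiCompact_fromSpecStalk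
  have hqs : ∀ (T : Scheme.{u}) [IsIntegral T], QuasiSeparated (T.fromSpecStalk (genericPoint T)) := fun T _ => by
    infer_instance
  have := hqc B
  have := hqs B
  let ν := Curv2.normalizationι B
  have hν : IsFinite ν := K375.NagSch.isFinite_normalizationι B hNag
  have hνm := Resolve.K375.NagNorm.isModif_normalizationι B hNag
  obtain ⟨hint, hnorm, -, -⟩ := S2351.result B
  have hbBir : IsBir b := hbm.exists_isIso
  have hνBir : IsBir ν := hνm.exists_isIso
  have hbir : IsBir (ν ≫ b) := K588.Bir.isBir_comp ν b hνBir hbBir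
  have hne := compl_support_nonempty hJ
  have hφη : (ν ≫ b) (genericPoint (Curv2.normalization B)) = genericPoint X := K588.Bir.map_genericPoint hbir
  have hbη : b (genericPoint B) = genericPoint X := K588.Bir.map_genericPoint hbBir
  have hνη : ν (genericPoint (Curv2.normalization B)) = genericPoint B := K588.Bir.map_genericPoint hνBir
  have hbiso : IsIso (b ∣_ J.support.compl) :=
    Divis.BlowUpFormal.isIso_morphismRestrict_compl_support hb _ disjoint_compl_left
  have hηJ : genericPoint X ∈ J.support.compl := K588.Bir.genericPoint_mem hne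
  have hlift : ∀ (T : Scheme.{u}) (_ : IsIntegral T) (g : T ⟶ X), Pi1.IsNormalScheme T →
      g (genericPoint T) = genericPoint X → BlowUp.IsEffCartierIdeal (J.comap g) →
      ∃ h : T ⟶ Curv2.normalization B, h ≫ ν ≫ b = g := by
    intro T hT g hTn hg hJg
    obtain ⟨h₀, hh₀, -⟩ := hb.2 T g hJg
    have h1 : h₀ (genericPoint T) = genericPoint B := by
      refine K588.Bir.inj_of_isIso_restrict b hbiso ?_ ?_
      · change (h₀ ≫ b) _ ∈ _
        rw [hh₀, hg]; exact hηJ
      · rw [hbη, ← hg, ← hh₀]; rfl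
    have := hqc T
    have := hqs T
    obtain ⟨h, hh⟩ := K372.NormFac.exists_fac hTn h₀ h1
    exact ⟨h, by rw [← Category.assoc]; change (h ≫ Curv2.normalizationι B) ≫ b = g; rw [hh, hh₀]⟩
  refine ⟨Curv2.normalization B, ν ≫ b, ⟨hint, hnorm, inferInstance, hne, ?_, ?_, ?_, ?_⟩, ?_⟩
  · have hT : IsIntegral (J.support.compl : Scheme.{u}) := by
      have : Nonempty (J.support.compl : X.Opens) := ⟨⟨_, hηJ⟩⟩
      infer_instance
    have e : J.comap (Scheme.Opens.ι J.support.compl) = ⊤ := by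
      rw [← Scheme.IdealSheafData.support_eq_bot_iff, Scheme.IdealSheafData.support_comap]
      ext x
      simp only [TopologicalSpace.Closeds.coe_preimage, Set.mem_preimage, TopologicalSpace.Closeds.coe_bot,
        Set.mem_empty_iff_false, iff_false]
      exact fun h => x.2 h
    obtain ⟨s, hs⟩ := hlift _ hT (Scheme.Opens.ι J.support.compl) (isNormalScheme_opens hn _)
      (by
        have : IsDominant (Scheme.Opens.ι J.support.compl) := ⟨by
          rw [DenseRange, Scheme.Opens.range_ι]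
          exact J.support.compl.2.dense hne⟩
        exact genericPoint_eq_of_isOpenImmersion (Scheme.Opens.ι J.support.compl)) (isEff_of_top e)
    exact isIso_restrict_of_section (ν ≫ b) hbir _ hne s hs
  · rw [Scheme.IdealSheafData.comap_comp]
    refine Dix.InterSurf.isEff_comap_of_generic ν hb.1 ?_
    rw [hνη]
    intro h
    rw [Scheme.IdealSheafData.support_comap] at h
    change b (genericPoint B) ∈ J.support at h
    rw [hbη] at h
    exact hηJ h
  · intro T hT g hTn hg hJg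
    exact hlift T hT g hTn hg hJg
  · intro T hT h h' hη e
    obtain ⟨O, hO, hOi⟩ := hbir
    refine hom_ext (ν ≫ b) O hOi h h' e (genericPoint T) ?_
    rw [hη]
    exact K588.Bir.genericPoint_mem hO
  · rw [Category.assoc]
    exact K588.HProj.comp_finite hBp ν

end K84.NormBlow
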