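import Mathlib.Algebra.MonoidAlgebra.Basic
import Mathlib.Algebra.MonoidAlgebra.MapDomain
import Mathlib.RingTheory.RingHom.Smooth
import Mathlib.GroupTheory.Index
import Mathlib.Data.Rat.Cast.Defs
import Mathlib.Algebra.BigOperators.Pi
import Mathlib.Algebra.BigOperators.Finsupp.Basic

/-!
# Toric algebra of the S19921 project: definitions

`P` is a finitely generated free abelian group, `v : I → P →+ ℤ` finitely many linear forms (each onto),
`cone v = {v ≥ 0}`, `Alg K v = K[cone v]`, `q i` vectors with `v j (q i) = 0` for `j ≠ i` and `v i (q i) > 0`.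
The star subdivision in the direction `w` at `j` is `Function.update v j w`.
-/

universe u

namespace K84.Tor

variable {P : Type} [AddCommGroup P] {I : Type}

/-- the cone `v ≥ 0` -/
def cone (v : I → P →+ ℤ) : AddSubmonoid P where
  carrier := {p | ∀ i, 0 ≤ v i p}
  zero_mem' := fun i => by simp
  add_mem' := fun ha hb i => by rw [map_add]; exact add_nonneg (ha i) (hb i)

theorem mem_cone {v : I → P →+ ℤ} {p : P} : p ∈ cone v ↔ ∀ i, 0 ≤ v i p := Iff.rfl

/-- the monoid algebra of the cone -/
abbrev Alg (K : Type u) [CommRing K] (v : I → P →+ ℤ) : Type u := AddMonoidAlgebra K (cone v)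

/-- the monomial `x^p` -/
noncomputable def mon (K : Type u) [CommRing K] {v : I → P →+ ℤ} {p : P} (hp : p ∈ cone v) : Alg K v :=
  AddMonoidAlgebra.single ⟨p, hp⟩ 1

theorem mon_mul (K : Type u) [CommRing K] {v : I → P →+ ℤ} {p p' : P} (hp : p ∈ cone v) (hp' : p' ∈ cone v) :
    mon K hp * mon K hp' = mon K ((cone v).add_mem hp hp') := by
  simp [mon, AddMonoidAlgebra.single_mul_single]

/-- `K[cone v] → K[P]` -/
noncomputable def toGp (K : Type u) [CommRing K] (v : I → P →+ ℤ) : Alg K v →+* AddMonoidAlgebra K P :=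
  AddMonoidAlgebra.mapDomainRingHom K (cone v).subtype

/-- `K[cone v] → K[cone v']` for `cone v ≤ cone v'` -/
noncomputable def incl (K : Type u) [CommRing K] {I' : Type} {v : I → P →+ ℤ} {v' : I' → P →+ ℤ}
    (h : cone v ≤ cone v') : Alg K v →+* Alg K v' :=
  AddMonoidAlgebra.mapDomainRingHom K (AddSubmonoid.inclusion h)

/-- simplicial data: dual vectors up to positive multiples, and every form onto -/
structure Dat (v : I → P →+ ℤ) where
  q : I → P
  pos : ∀ i, 0 < v i (q i)
  ne : ∀ i j, j ≠ i → v j (q i) = 0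
  onto : ∀ i, Function.Surjective (v i)

theorem Dat.mem {v : I → P →+ ℤ} (D : Dat v) (i : I) : D.q i ∈ cone v := fun j => by
  by_cases h : j = i
  · subst h; exact (D.pos j).le
  · rw [D.ne i j h]

/-- the image lattice in `ℤ^I` -/
def lat (v : I → P →+ ℤ) : AddSubgroup (I → ℤ) := (AddMonoidHom.mk' (fun p i => v i p) (fun a b => by
  ext i; simp)).range

theorem mem_lat {v : I → P →+ ℤ} {n : I → ℤ} : n ∈ lat v ↔ ∃ p, ∀ i, v i p = n i := by
  constructor
  · rintro ⟨p, hp⟩; exact ⟨p, fun i => congrFun hp i⟩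
  · rintro ⟨p, hp⟩; exact ⟨p, funext hp⟩

/-- the multiplicity -/
noncomputable def mult (v : I → P →+ ℤ) : ℕ := (lat v).index

/-- `w` is an integral combination: a point of the open unit box (on its support) of the dual lattice, primitive -/
structure Box [Fintype I] (v : I → P →+ ℤ) (a : I → ℚ) (w : P →+ ℤ) : Prop where
  nonneg : ∀ i, 0 ≤ a i
  lt_one : ∀ i, a i < 1
  eq : ∀ p, (w p : ℚ) = ∑ i, a i * (v i p : ℚ)
  onto : Function.Surjective w

end K84.Tor
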