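import Groth.Agent.Resolve.K84.NodeDThm
import Groth.Agent.Resolve.K84.NormBlow
import Groth.Agent.Resolve.K937.StarThm

/-!
# Node D: toroidal resolution
-/

set_option autoImplicit false
universe u

open CategoryTheory AlgebraicGeometry TopologicalSpace

namespace K84.NodeDMain

open K84.Iface K84.DParts

variable (K : Type u) [Field K]

theorem star : DParts.Star K := by
  intro X X₁ p hX _ ι F φ J hNB a e F' h0 h1 h2 _ ha0 U c w c0 hal hbox hc0 he hJU x₁ hx₁
  exact K937.StarThm.main' K X X₁ p hX ι F φ J hNB a e F' h0 h1 h2 ha0 U c w c0 hal hbox hc0 he hJU x₁ hx₁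

/-- **Node D**. -/
theorem main : NodeD K := NodeDThm.main (star K) (NormBlow.main K)

end K84.NodeDMain
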