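import Groth.Agent.Resolve.K84.Iface
import Groth.Agent.Resolve.K84.Tor
import Groth.Prelude.Def_BlowUp2

/-!
# Node D of the resolution project: flexible charts and the exact statements of the pieces

* `NBEx K`   : existence of normalized blow-ups (helper588)
* `Center K` : every chart can be centered at a given point (T3)
* `Cmp K`    : comparison of two charts at a common point (helper937: MonCmp)
* `Star K`   : the star subdivision of a chart (normalized blow-up of a monomial ideal)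
* `Fin1 K`   : multiplicity one everywhere: smooth with an snc family
-/

universe u

open CategoryTheory AlgebraicGeometry

namespace K84.DParts

open K84.Iface

/-- A normalized blow-up of `J`: proper and birational from a normal integral scheme, `J` becomes invertible, with the
universal property among dominant morphisms from normal integral schemes. -/
structure IsNB {X₁ X : Scheme.{u}} [IsIntegral X] (φ : X₁ ⟶ X) (J : X.IdealSheafData) : Prop where
  int : IsIntegral X₁
  normal : Pi1.IsNormalScheme X₁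
  proper : IsProper φ
  ne : ((J.support.compl : X.Opens) : Set X).Nonempty
  iso : IsIso (φ ∣_ J.support.compl)
  eff : BlowUp.IsEffCartierIdeal (J.comap φ)
  lift : ∀ (T : Scheme.{u}) (_ : IsIntegral T) (g : T ⟶ X), Pi1.IsNormalScheme T →
    g (genericPoint T) = genericPoint X → BlowUp.IsEffCartierIdeal (J.comap g) →
    ∃ h : T ⟶ X₁, h ≫ φ = g
  ext : ∀ (T : Scheme.{u}) (_ : IsIntegral T) (h h' : T ⟶ X₁),
    (h ≫ φ) (genericPoint T) = genericPoint X → h ≫ φ = h' ≫ φ → h = h'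

/-- **D1** -/
def NBEx (K : Type u) [Field K] : Prop :=
  ∀ (X : Scheme.{u}) (p : X ⟶ Spec (CommRingCat.of K)) (_ : IsIntegral X), Pi1.IsNormalScheme X →
    RelProj.IsHProjective p → ∀ J : X.IdealSheafData, J ≠ ⊥ →
    ∃ (X₁ : Scheme.{u}) (φ : X₁ ⟶ X), IsNB φ J ∧ RelProj.IsHProjective (φ ≫ p)

/-- A flexible Kummer-toroidal chart: `P` a finitely generated free abelian group, `v i : P →+ ℤ` surjective linear forms
indexed by `I`, labelled injectively by `lab`, `dat.q i` vectors with `v j (q i) = 0` (`j ≠ i`), `v i (q i) > 0`,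
`ψ : K[Q] → Γ(X, U)` smooth, `Q = {v ≥ 0}`, with `F (lab i)` generated by `x^(q i)` and the other labels trivial. -/
structure FChart {K : Type u} [Field K] {X : Scheme.{u}} (p : X ⟶ Spec (CommRingCat.of K)) {ι : Type}
    (F : ι → X.IdealSheafData) (U : X.affineOpens) where
  P : Type
  I : Type
  [addCommGroupP : AddCommGroup P]
  [freeP : Module.Free ℤ P]
  [finiteP : Module.Finite ℤ P]
  [fintypeI : Fintype I]
  v : I → P →+ ℤ
  lab : I → ι
  lab_inj : Function.Injective lab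
  dat : Tor.Dat v
  ψ : Tor.Alg K v →+* Γ(X, U)
  ψ_k : ∀ c : K, ψ (AddMonoidAlgebra.single 0 c) = kmap p U c
  smooth : ψ.Smooth
  ideal_lab : ∀ i, (F (lab i)).ideal U = Ideal.span {ψ (Tor.mon K (dat.mem i))}
  ideal_notMem : ∀ j, j ∉ Set.range lab → (F j).ideal U = ⊤

attribute [instance] FChart.addCommGroupP FChart.freeP FChart.finiteP FChart.fintypeI

/-- all the labels of the chart pass through `x` -/
def FChart.Centered {K : Type u} [Field K] {X : Scheme.{u}} {p : X ⟶ Spec (CommRingCat.of K)} {ι : Type}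
    {F : ι → X.IdealSheafData} {U : X.affineOpens} (c : FChart p F U) (x : X) : Prop :=
  ∀ i, x ∈ (F (c.lab i)).support

/-- **D0**: a chart at `x` can be centered at `x` (same lattice `P`, fewer linear forms). -/
def Center (K : Type u) [Field K] : Prop :=
  ∀ (X : Scheme.{u}) (p : X ⟶ Spec (CommRingCat.of K)) (_ : IsIntegral X) (ι : Type)
    (F : ι → X.IdealSheafData) (U : X.affineOpens) (c : FChart p F U) (x : X), x ∈ U.1 →
    ∀ W : X.Opens, x ∈ W →
    ∃ (U' : X.affineOpens) (c' : FChart p F U') (e : c.P ≃+ c'.P), x ∈ U'.1 ∧ U'.1 ≤ U.1 ∧ U'.1 ≤ W ∧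
      c'.Centered x ∧
      (∀ i', ∃ i, c.lab i = c'.lab i') ∧
      (∀ i i', c.lab i = c'.lab i' → ∀ m, c.v i m = c'.v i' (e m)) ∧
      (∀ i i', c.lab i = c'.lab i' → e (c.dat.q i) = c'.dat.q i') ∧
      Tor.mult c'.v ≤ Tor.mult c.v

/-- **D3**: comparison of two charts at a common point. -/
def Cmp (K : Type u) [Field K] : Prop :=
  ∀ (X : Scheme.{u}) (p : X ⟶ Spec (CommRingCat.of K)) (_ : IsIntegral X) (ι : Type)
    (F : ι → X.IdealSheafData) (U₁ U₂ : X.affineOpens) (c₁ : FChart p F U₁) (c₂ : FChart p F U₂) (x : X),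
    x ∈ U₁.1 → x ∈ U₂.1 →
    (∀ m₁ : c₁.P, ∃ m₂ : c₂.P, ∀ i₁ i₂, c₁.lab i₁ = c₂.lab i₂ → x ∈ (F (c₁.lab i₁)).support →
      c₁.v i₁ m₁ = c₂.v i₂ m₂) ∧
    (∀ i₁ i₂, c₁.lab i₁ = c₂.lab i₂ → x ∈ (F (c₁.lab i₁)).support →
      c₁.v i₁ (c₁.dat.q i₁) = c₂.v i₂ (c₂.dat.q i₂))

/-- **D2**: the star subdivision. `a : ι → ℚ` are the weights (`τ = {a > 0}`), `e l` the exponents,
`J = Σ_{l ∈ τ} F_l ^ (e l)` on `U`; the new labels are `none` (exceptional) and `some l` (strict transforms). -/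
def Star (K : Type u) [Field K] : Prop :=
  ∀ (X X₁ : Scheme.{u}) (p : X ⟶ Spec (CommRingCat.of K)) (_ : IsIntegral X) (_ : Pi1.IsNormalScheme X)
    (ι : Type) (F : ι → X.IdealSheafData) (φ : X₁ ⟶ X) (J : X.IdealSheafData) (_ : IsNB φ J)
    (a : ι → ℚ) (e : ι → ℕ) (F' : Option ι → X₁.IdealSheafData),
    F' none = J.comap φ →
    (∀ l, 0 < a l → F' (some l) * J.comap φ = (F l ^ e l).comap φ) →
    (∀ l, a l = 0 → F' (some l) = (F l).comap φ) →
    (∃ l, 0 < a l) →
    (∀ l, 0 ≤ a l) →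
    ∀ (U : X.affineOpens) (c : FChart p F U) (w : c.P →+ ℤ) (c0 : ℕ),
      (∀ l, 0 < a l → l ∈ Set.range c.lab) →
      Tor.Box c.v (fun i => a (c.lab i)) w → 0 < c0 →
      (∀ i, 0 < a (c.lab i) → (e (c.lab i) : ℤ) * w (c.dat.q i) = c0) →
      J.ideal U = Ideal.span {y | ∃ i, 0 < a (c.lab i) ∧
        y = c.ψ (Tor.mon K (c.dat.mem i)) ^ e (c.lab i)} →
      ∀ x₁ : X₁, φ x₁ ∈ U.1 →
        ∃ (V : X₁.affineOpens) (_ : x₁ ∈ V.1) (c' : FChart (φ ≫ p) F' V), Tor.mult c'.v < Tor.mult c.v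

/-- **D4**: multiplicity one. -/
def Fin1 (K : Type u) [Field K] : Prop :=
  ∀ (X : Scheme.{u}) (p : X ⟶ Spec (CommRingCat.of K)) (_ : IsIntegral X) (r : ℕ)
    (F : Fin r → X.IdealSheafData), LocallyOfFiniteType p →
    (∀ x : X, ∃ (U : X.affineOpens) (c : FChart p F U), x ∈ U.1 ∧ c.Centered x ∧ Tor.mult c.v = 1) →
    Smooth p ∧ ∃ D : Fin r → X.IdealSheafData, LogNCD.IsNCD D p ∧
      ∀ i, ((D i).support : Set X) = ((F i).support : Set X)

end K84.DParts
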