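import Groth.Agent.Resolve.K588.Main
import Groth.Agent.Resolve.K124.NodeA
import Groth.Agent.Resolve.K138.TowerThm
import Groth.Agent.Resolve.K84.NodeDMain
import Groth.Agent.Resolve.K631.E3
import Groth.Agent.Resolve.K937.PartI
import Groth.Agent.Resolve.K891.NodeC
import Groth.Agent.Resolve.K913.Part2

/-!
# The resolution project: assembly of the nodes
-/

set_option autoImplicit false
universe u

open CategoryTheory AlgebraicGeometry TopologicalSpace

namespace K84.Final

open K84.Iface

variable (K : Type u) [Field K] [CharZero K]

theorem nodeA (n : ℕ) : NodeA K n := K124.NodeA.nodeA_of_tower n (K138.TowerThm.tower n)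

theorem nodeC : NodeC K := K891.NodeC.main K (K937.PartI.main K) (K913.Part2.main K)

/-- `W(n)` for all `n` from Node B. -/
theorem W (hB : NodeB K) (n : ℕ) : W K n :=
  K588.Main.main K (nodeA K) hB (nodeC K) (NodeDMain.main K) n

end K84.Final
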