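import Groth.Agent.Ega4late.H532.GlueStalk

/-!
# Node D: cutting an ideal sheaf along a clopen part of its support
-/

set_option autoImplicit false
universe u

open CategoryTheory AlgebraicGeometry TopologicalSpace

namespace K84.GlueJ

open Groth.Agent.Divis.CartierBasic Groth.Agent.Ega4late.H532.GlueStalk

variable {X : Scheme.{u}}

theorem exists_glue (J₀ : X.IdealSheafData) (W W' : Set X) (hW : IsClosed W) (hW' : IsClosed W')
    (hd : ∀ x ∈ W, x ∉ W') (hs : (J₀.support : Set X) = W ∪ W') :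
    ∃ J : X.IdealSheafData, (∀ U : X.affineOpens, (∀ x ∈ U.1, x ∉ W') → J.ideal U = J₀.ideal U) ∧
      (J.support : Set X) = W ∧ J₀ ≤ J := by
  classical
  have htop : ∀ x, x ∉ W → x ∉ W' → stalkIdeal J₀ x = ⊤ := fun x h1 h2 => by
    rw [← notMem_support_iff_stalkIdeal_eq_top]
    intro h
    have : x ∈ W ∪ W' := by rw [← hs]; exact h
    exact this.elim h1 h2
  obtain ⟨J, hJ⟩ := exists_idealSheaf_of_local (Y := X)
    (fun y => if y ∈ W then stalkIdeal J₀ y else ⊤) (fun y => by
      by_cases hy : y ∈ W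
      · obtain ⟨V, hV, hyV, hle⟩ := exists_isAffineOpen_mem_and_subset
          (U := ⟨W'ᶜ, hW'.isOpen_compl⟩) (x := y) (hd y hy)
        refine ⟨V, hyV, J₀.ideal ⟨V, hV⟩, fun y' h' => ?_⟩
        rw [← stalkIdeal_eq J₀ ⟨V, hV⟩ h']
        split_ifs with h1
        · rfl
        · exact (htop y' h1 (hle h')).symm
      · refine ⟨⟨Wᶜ, hW.isOpen_compl⟩, hy, ⊤, fun y' h' => ?_⟩
        rw [if_neg h', Ideal.map_top])
  refine ⟨J, fun U hU => ?_, ?_, ?_⟩
  · rw [U.2.ideal_ext_iff]
    intro x hx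
    rw [← stalkIdeal_eq J U hx, ← stalkIdeal_eq J₀ U hx, hJ]
    split_ifs with h1
    · rfl
    · exact (htop x h1 (hU x hx)).symm
  · ext x
    change x ∈ J.support ↔ x ∈ W
    rw [mem_support_iff_stalkIdeal_ne_top, hJ]
    split_ifs with h1
    · have : x ∈ J₀.support := by
        change x ∈ (J₀.support : Set X)
        rw [hs]; exact Or.inl h1
      exact ⟨fun _ => h1, fun _ => (mem_support_iff_stalkIdeal_ne_top _ _).1 this⟩
    · exact ⟨fun h => absurd rfl h, fun h => absurd h h1⟩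
  · refine le_of_stalkIdeal fun x => ?_
    rw [hJ]
    split_ifs
    · exact le_rfl
    · exact le_top

end K84.GlueJ
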