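import Groth.Agent.Resolve.K84.Tor
import Groth.Agent.Resolve.K73.ToricIdx

/-!
# Node D: multiplicities are nonzero; existence of a box vector
-/

set_option autoImplicit false

namespace K84.Tor

variable {P : Type} [AddCommGroup P] {I : Type}

theorem mult_eq_toric (v : I → P →+ ℤ) : mult v = K73.Toric.mult v := rfl

theorem mult_ne_zero [Finite I] {v : I → P →+ ℤ} (D : Dat v) : mult v ≠ 0 := by
  classical
  cases nonempty_fintype I
  let d : I → ℕ := fun i => (v i (D.q i)).toNat
  have hd : ∀ i, (d i : ℤ) = v i (D.q i) := fun i => Int.toNat_of_nonneg (D.pos i).le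
  have hd0 : ∀ i, d i ≠ 0 := fun i h => by
    have := D.pos i
    rw [← hd i, h] at this
    exact absurd this (by simp)
  let N : ℕ := ∏ i, d i
  have hN : N ≠ 0 := Finset.prod_ne_zero_iff.2 fun i _ => hd0 i
  have key : ∀ y : I → ℤ, (fun i => (N : ℤ) * y i) ∈ lat v := by
    intro y
    refine mem_lat.2 ⟨∑ i, (((∏ k ∈ Finset.univ.erase i, d k : ℕ) : ℤ) * y i) • D.q i, fun j => ?_⟩
    rw [map_sum, Finset.sum_eq_single j]
    · rw [map_zsmul, smul_eq_mul, ← hd j]
      have : N = d j * ∏ k ∈ Finset.univ.erase j, d k := (Finset.mul_prod_erase _ _ (Finset.mem_univ j)).symm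
      rw [this]
      push_cast
      ring
    · intro i _ hij
      rw [map_zsmul, D.ne i j hij.symm, smul_zero]
    · intro h; exact absurd (Finset.mem_univ j) h
  have : Finite ((I → ℤ) ⧸ lat v) := by
    have : NeZero N := ⟨hN⟩
    refine Finite.of_surjective (fun (x : I → Fin N) => (QuotientAddGroup.mk (fun i => ((x i : ℕ) : ℤ)) : (I → ℤ) ⧸ lat v)) ?_
    intro z
    obtain ⟨z, rfl⟩ := QuotientAddGroup.mk_surjective z
    have h0 : ∀ i, 0 ≤ z i % N := fun i => Int.emod_nonneg _ (by exact_mod_cast hN)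
    have h1 : ∀ i, z i % N < N := fun i => Int.emod_lt_of_pos _ (by positivity)
    refine ⟨fun i => ⟨(z i % N).toNat, by
      have := h1 i; have := h0 i; omega⟩, ?_⟩
    rw [QuotientAddGroup.eq]
    have h2 : -(fun i => ((((z i % N).toNat : ℕ)) : ℤ)) + z = fun i => (N : ℤ) * (z i / N) := by
      ext i
      simp only [Pi.add_apply, Pi.neg_apply, Int.toNat_of_nonneg (h0 i)]
      have := Int.emod_add_mul_ediv (z i) N
      linarith
    exact h2 ▸ key _
  exact AddSubgroup.index_ne_zero_of_finite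

theorem exists_box [Fintype I] {v : I → P →+ ℤ} (D : Dat v) (h1 : mult v ≠ 1) :
    ∃ (a : I → ℚ) (w : P →+ ℤ), Box v a w ∧ ∃ i, 0 < a i := by
  obtain ⟨w, d, n, hw, hdw, hlt, i₀, hi₀⟩ := K73.Toric.exists_star (v := v) (mult_ne_zero D) h1
  have hd : 0 < d := lt_of_le_of_lt (Nat.zero_le _) (hlt i₀)
  have hdq : (0 : ℚ) < d := by exact_mod_cast hd
  refine ⟨fun i => (n i : ℚ) / d, w, ⟨fun i => by positivity, fun i => ?_, fun m => ?_, hw⟩, i₀, ?_⟩
  · rw [div_lt_one hdq]
    exact_mod_cast hlt i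
  · have := DFunLike.congr_fun hdw m
    simp only [AddMonoidHom.coe_smul, Pi.smul_apply, AddMonoidHom.finsetSum_apply, nsmul_eq_mul] at this
    have h2 : (d : ℚ) * (w m : ℚ) = ∑ i, (n i : ℚ) * (v i m : ℚ) := by exact_mod_cast this
    have h3 : (w m : ℚ) = (∑ i, (n i : ℚ) * (v i m : ℚ)) / d := by
      rw [← h2]; field_simp
    rw [h3, Finset.sum_div]
    refine Finset.sum_congr rfl fun i _ => ?_
    ring
  · have : 0 < n i₀ := Nat.pos_of_ne_zero hi₀
    positivity

end K84.Tor
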