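import Groth.Agent.Resolve.K84.Meas
import Groth.Agent.Resolve.K84.Tor2

/-!
# Node D: the locus where a given star subdivision is defined
-/

set_option autoImplicit false
universe u

open CategoryTheory AlgebraicGeometry TopologicalSpace

namespace K84.Good

open K84.Iface K84.DParts K84.Meas

variable {K : Type u} [Field K] {X : Scheme.{u}} {p : X ⟶ Spec (CommRingCat.of K)} {ι : Type}
  {F : ι → X.IdealSheafData}

open Classical in
/-- the value of the form with label `l` (zero if there is none) -/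
noncomputable def val {U : X.affineOpens} (c : FChart p F U) (l : ι) (m : c.P) : ℚ :=
  ∑ i, if c.lab i = l then (c.v i m : ℚ) else 0

theorem val_lab {U : X.affineOpens} (c : FChart p F U) (i : c.I) (m : c.P) : val c (c.lab i) m = c.v i m := by
  classical
  unfold val
  rw [Finset.sum_eq_single i]
  · simp
  · intro j _ hj
    rw [if_neg (fun h => hj (c.lab_inj h))]
  · intro h; exact absurd (Finset.mem_univ i) h

theorem sum_eq [Fintype ι] {U : X.affineOpens} (c : FChart p F U) (a : ι → ℚ) (m : c.P) :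
    ∑ i, a (c.lab i) * (c.v i m : ℚ) = ∑ l, a l * val c l m := by
  classical
  unfold val
  simp_rw [Finset.mul_sum]
  rw [Finset.sum_comm]
  refine Finset.sum_congr rfl fun i _ => ?_
  rw [Finset.sum_eq_single (c.lab i)]
  · simp
  · intro l _ hl
    rw [if_neg (Ne.symm hl), mul_zero]
  · intro h; exact absurd (Finset.mem_univ _) h

/-- The star subdivision with weights `a` is defined on the chart and has the prescribed values. -/
def GoodC (a : ι → ℚ) (g : ι → ℕ) {U : X.affineOpens} (c : FChart p F U) : Prop :=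
  ∃ w : c.P →+ ℤ, Tor.Box c.v (fun i => a (c.lab i)) w ∧
    ∀ i, 0 < a (c.lab i) → w (c.dat.q i) = g (c.lab i)

theorem goodC_of_common [Finite ι] (hCmp : Cmp K) [hX : IsIntegral X] (a : ι → ℚ) (g : ι → ℕ)
    (ha0 : ∀ l, 0 ≤ a l) (ha1 : ∀ l, a l < 1) {U₁ U₂ : X.affineOpens} (c₁ : FChart p F U₁) (c₂ : FChart p F U₂)
    {z : X} (h₁ : z ∈ U₁.1) (h₂ : z ∈ U₂.1) (hz : ∀ l, 0 < a l → z ∈ (F l).support) (hg : GoodC a g c₁) :
    GoodC a g c₂ := by
  cases nonempty_fintype ι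
  obtain ⟨w, hw, hwg⟩ := hg
  have h12 := hCmp X p hX ι F U₁ U₂ c₁ c₂ z h₁ h₂
  have h21 := hCmp X p hX ι F U₂ U₁ c₂ c₁ z h₂ h₁
  -- matched vectors have the same weighted sums
  have hsum : ∀ (m₁ : c₁.P) (m₂ : c₂.P),
      (∀ i₁ i₂, c₁.lab i₁ = c₂.lab i₂ → z ∈ (F (c₁.lab i₁)).support → c₁.v i₁ m₁ = c₂.v i₂ m₂) →
      ∑ i, a (c₂.lab i) * (c₂.v i m₂ : ℚ) = (w m₁ : ℚ) := by
    intro m₁ m₂ hm
    rw [hw.eq, sum_eq c₂ a m₂, sum_eq c₁ a m₁]
    refine Finset.sum_congr rfl fun l _ => ?_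
    rcases (ha0 l).eq_or_lt with h0 | h0
    · rw [← h0, zero_mul, zero_mul]
    · obtain ⟨i₁, hi₁⟩ := mem_range_lab c₁ h₁ (hz l h0)
      obtain ⟨i₂, hi₂⟩ := mem_range_lab c₂ h₂ (hz l h0)
      have e1 : val c₁ l m₁ = c₁.v i₁ m₁ := by rw [← hi₁, val_lab]
      have e2 : val c₂ l m₂ = c₂.v i₂ m₂ := by rw [← hi₂, val_lab]
      rw [e1, e2, hm i₁ i₂ (hi₁.trans hi₂.symm) (by rw [hi₁]; exact hz l h0)]
  have h21' : ∀ m₂ : c₂.P, ∃ m₁ : c₁.P,
      ∑ i, a (c₂.lab i) * (c₂.v i m₂ : ℚ) = (w m₁ : ℚ) := fun m₂ => by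
    obtain ⟨m₁, hm⟩ := h21.1 m₂
    exact ⟨m₁, hsum m₁ m₂ fun i₁ i₂ h h' => (hm i₂ i₁ h.symm (by rwa [← h])).symm⟩
  choose f hf using h21'
  let w₂ : c₂.P →+ ℤ := AddMonoidHom.mk' (fun m₂ => w (f m₂)) (fun m m' => by
    have e1 := hf (m + m')
    have e2 := hf m
    have e3 := hf m'
    have : (w (f (m + m')) : ℚ) = (w (f m) : ℚ) + (w (f m') : ℚ) := by
      rw [← e1, ← e2, ← e3, ← Finset.sum_add_distrib]
      refine Finset.sum_congr rfl fun i _ => ?_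
      rw [map_add]; push_cast; ring
    exact_mod_cast this)
  have hw₂ : ∀ m₂, (w₂ m₂ : ℚ) = ∑ i, a (c₂.lab i) * (c₂.v i m₂ : ℚ) := fun m₂ => (hf m₂).symm
  refine ⟨w₂, ⟨fun i => ha0 _, fun i => ha1 _, hw₂, fun n => ?_⟩, fun i₂ hi₂ => ?_⟩
  · obtain ⟨m₁, hm₁⟩ := hw.onto n
    obtain ⟨m₂, hm₂⟩ := h12.1 m₁
    refine ⟨m₂, ?_⟩
    have := hsum m₁ m₂ hm₂
    rw [← hw₂, hm₁] at this
    exact_mod_cast this
  · obtain ⟨i₁, hi₁⟩ := mem_range_lab c₁ h₁ (hz _ hi₂)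
    have e1 : (w₂ (c₂.dat.q i₂) : ℚ) = a (c₂.lab i₂) * (c₂.v i₂ (c₂.dat.q i₂) : ℚ) := by
      rw [hw₂, Finset.sum_eq_single i₂]
      · intro j _ hj
        rw [c₂.dat.ne i₂ j hj]; simp
      · intro h; exact absurd (Finset.mem_univ _) h
    have e2 : (w (c₁.dat.q i₁) : ℚ) = a (c₁.lab i₁) * (c₁.v i₁ (c₁.dat.q i₁) : ℚ) := by
      rw [hw.eq, Finset.sum_eq_single i₁]
      · intro j _ hj
        rw [c₁.dat.ne i₁ j hj]; simp
      · intro h; exact absurd (Finset.mem_univ _) h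
    have e3 : c₁.v i₁ (c₁.dat.q i₁) = c₂.v i₂ (c₂.dat.q i₂) := h12.2 i₁ i₂ hi₁ (by rw [hi₁]; exact hz _ hi₂)
    have e4 : w (c₁.dat.q i₁) = g (c₁.lab i₁) := hwg i₁ (by rw [hi₁]; exact hi₂)
    have e5 : (w₂ (c₂.dat.q i₂) : ℚ) = w (c₁.dat.q i₁) := by rw [e1, e2, e3, hi₁]
    have e6 : w₂ (c₂.dat.q i₂) = w (c₁.dat.q i₁) := by exact_mod_cast e5
    rw [e6, e4, hi₁]

section Locus

variable (p F) (a : ι → ℚ) (g : ι → ℕ)

/-- the stratum of the labels of positive weight -/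
def Et : Set X := {z | ∀ l, 0 < a l → z ∈ (F l).support}

theorem isClosed_Et : IsClosed (Et F a) := isClosed_E F {l | 0 < a l}

/-- the good locus in the stratum -/
def Wg : Set X := {z | z ∈ Et F a ∧ ∃ (U : X.affineOpens) (c : FChart p F U), z ∈ U.1 ∧ GoodC a g c}

variable {p F a g}

theorem mem_Wg_iff [Finite ι] (hCmp : Cmp K) [IsIntegral X] (ha0 : ∀ l, 0 ≤ a l) (ha1 : ∀ l, a l < 1)
    {U : X.affineOpens} (c : FChart p F U) {z : X} (hz : z ∈ U.1) (hE : z ∈ Et F a) :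
    z ∈ Wg p F a g ↔ GoodC a g c := by
  constructor
  · rintro ⟨-, U', c', hz', hc'⟩
    exact goodC_of_common hCmp a g ha0 ha1 c' c hz' hz hE hc'
  · intro h
    exact ⟨hE, U, c, hz, h⟩

theorem isClosed_Wg [Finite ι] (hCmp : Cmp K) [IsIntegral X] (ha0 : ∀ l, 0 ≤ a l) (ha1 : ∀ l, a l < 1)
    (h : HasCh p F) : IsClosed (Wg p F a g) := by
  rw [← isOpen_compl_iff, isOpen_iff_mem_nhds]
  intro z hz
  by_cases hE : z ∈ Et F a
  · obtain ⟨U, hzU, ⟨c⟩⟩ := h z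
    refine Filter.mem_of_superset (U.1.2.mem_nhds hzU) fun z' hz' hW => hz ?_
    rw [mem_Wg_iff hCmp ha0 ha1 c hzU hE]
    exact (mem_Wg_iff hCmp ha0 ha1 c hz' hW.1).1 hW
  · exact Filter.mem_of_superset ((isClosed_Et F a).isOpen_compl.mem_nhds hE) fun z' hz' hW => hz' hW.1

theorem isClosed_diff [Finite ι] (hCmp : Cmp K) [IsIntegral X] (ha0 : ∀ l, 0 ≤ a l) (ha1 : ∀ l, a l < 1)
    (h : HasCh p F) : IsClosed (Et F a \ Wg p F a g) := by
  rw [← isOpen_compl_iff, isOpen_iff_mem_nhds]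
  intro z hz
  by_cases hE : z ∈ Et F a
  · have hzW : z ∈ Wg p F a g := by
      by_contra hW
      exact hz ⟨hE, hW⟩
    obtain ⟨U, hzU, ⟨c⟩⟩ := h z
    refine Filter.mem_of_superset (U.1.2.mem_nhds hzU) fun z' hz' hW => hW.2 ?_
    rw [mem_Wg_iff hCmp ha0 ha1 c hz' hW.1]
    exact (mem_Wg_iff hCmp ha0 ha1 c hzU hE).1 hzW
  · exact Filter.mem_of_superset ((isClosed_Et F a).isOpen_compl.mem_nhds hE) fun z' hz' hW => hz' hW.1

end Locus

end K84.Good
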