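import Groth.Agent.Resolve.K84.StepC

/-!
# Node D: termination
-/

set_option autoImplicit false
universe u

open CategoryTheory AlgebraicGeometry TopologicalSpace

namespace K84.Induct

open K84.Iface K84.DParts K84.Meas K84.Good K84.StepC

variable {K : Type u} [Field K]

/-- The conclusion of Node D. -/
def Res {X : Scheme.{u}} (p : X ⟶ Spec (CommRingCat.of K)) {ι : Type} (F : ι → X.IdealSheafData) : Prop :=
  ∃ (X₁ : Scheme.{u}) (φ : X₁ ⟶ X) (r' : ℕ) (D : Fin r' → X₁.IdealSheafData),
      IsIntegral X₁ ∧ RelProj.IsHProjective (φ ≫ p) ∧ IsBir φ ∧ Smooth (φ ≫ p) ∧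
      LogNCD.IsNCD D (φ ≫ p) ∧ φ ⁻¹' (supp F) = supp D

theorem specializes_of_isIso {X₁ X : Scheme.{u}} (φ : X₁ ⟶ X) (W : X.Opens) (hW : IsIso (φ ∣_ W)) {y x : X₁}
    (hx : φ x ∈ W) (h : φ y ⤳ φ x) : y ⤳ x := by
  have hy : φ y ∈ W := h.mem_open W.2 hx
  let z : (φ ⁻¹ᵁ W : X₁.Opens) := ⟨y, hy⟩
  let z' : (φ ⁻¹ᵁ W : X₁.Opens) := ⟨x, hx⟩
  have hind := (Scheme.homeoOfIso (asIso (φ ∣_ W))).isInducing
  have h1 : (φ ∣_ W) z ⤳ (φ ∣_ W) z' := by
    refine (subtype_specializes_iff (X := X) (p := fun x => x ∈ W) _ _).2 ?_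
    have e1 : ((φ ∣_ W) z).1 = φ y := morphismRestrict_base_coe φ W z
    have e2 : ((φ ∣_ W) z').1 = φ x := morphismRestrict_base_coe φ W z'
    exact e1.symm ▸ e2.symm ▸ h
  have h2 : z ⤳ z' := hind.specializes_iff.1 h1
  exact (subtype_specializes_iff _ _).1 h2

theorem res_of_step (hCen : Center K) {X : Scheme.{u}} {p : X ⟶ Spec (CommRingCat.of K)} [IsIntegral X]
    {ι : Type} {F : ι → X.IdealSheafData} {h : HasCh p F} {x : X} (s : Step hCen p F h x)
    (hr : Res (s.φ ≫ p) s.F') : Res p F := by
  obtain ⟨X₂, φ₂, r, D, h1, h2, h3, h4, h5, h6⟩ := hr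
  have := s.int
  rw [← Category.assoc] at h2 h4 h5
  refine ⟨X₂, φ₂ ≫ s.φ, r, D, h1, h2, K588.Bir.isBir_comp φ₂ s.φ h3 ⟨s.W, s.ne, s.iso⟩, h4, h5, ?_⟩
  rw [← h6, ← s.supp_eq]
  ext z
  simp

/-- the points of `G F` of multiplicity `m` -/
def Nm (hCen : Center K) {X : Scheme.{u}} {p : X ⟶ Spec (CommRingCat.of K)} [IsIntegral X]
    {ι : Type} {F : ι → X.IdealSheafData} (h : HasCh p F) (m : ℕ) : Set X :=
  {x | x ∈ G F ∧ mu hCen h x = m}

theorem ncard_lt (hCen : Center K) {X : Scheme.{u}} {p : X ⟶ Spec (CommRingCat.of K)} [IsIntegral X]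
    {ι : Type} {F : ι → X.IdealSheafData} {h : HasCh p F} {x : X} (s : Step hCen p F h x) (m : ℕ)
    (hm : ∀ x, mu hCen h x ≤ m) (hx : x ∈ Nm hCen h m) (hfin : (Nm hCen h m).Finite) :
    haveI := s.int
    (Nm hCen s.h' m).ncard < (Nm hCen h m).ncard := by
  have := s.int
  have hW : ∀ x₁ ∈ Nm hCen s.h' m, s.φ x₁ ∈ s.W := by
    intro x₁ hx₁
    by_contra hn
    have h1 := s.lt x₁ hn
    rw [hx₁.2] at h1
    exact absurd (hm (s.φ x₁)) (not_le.2 h1)
  refine lt_of_le_of_lt (Set.ncard_le_ncard_of_injOn (t := Nm hCen h m \ {x}) s.φ (fun x₁ hx₁ => ?_)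
    (fun x₁ hx₁ x₂ hx₂ e => K588.Bir.inj_of_isIso_restrict s.φ s.iso (hW x₁ hx₁) e) (hfin.subset Set.sdiff_subset))
    (Set.ncard_sdiff_singleton_lt_of_mem hx hfin)
  refine ⟨⟨fun y hy hl => ?_, ?_⟩, ?_⟩
  · have hyW : y ∈ s.W := hy.mem_open s.W.2 (hW x₁ hx₁)
    obtain ⟨y₁, rfl⟩ := K588.Bir.exists_of_isIso_restrict s.φ s.iso hyW
    have h1 : y₁ ⤳ x₁ := specializes_of_isIso s.φ s.W s.iso (hW x₁ hx₁) hy
    have h2 : y₁ = x₁ := by
      refine hx₁.1 y₁ h1 fun o ho => ?_
      cases o with
      | none => exact absurd ho (s.none_notMem x₁ (hW x₁ hx₁))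
      | some l => exact (s.some_mem y₁ l hyW).2 (hl l ((s.some_mem x₁ l (hW x₁ hx₁)).1 ho))
    rw [h2]
  · rw [← s.eq x₁ (hW x₁ hx₁)]
    exact hx₁.2
  · intro h1
    have h2 : s.φ x₁ = x := h1
    have h3 := hW x₁ hx₁
    rw [h2] at h3
    exact s.notMem h3

theorem isNoetherian_of_isHProjective {X : Scheme.{u}} {p : X ⟶ Spec (CommRingCat.of K)}
    (hp : RelProj.IsHProjective p) : IsProper p ∧ IsNoetherian X := by
  have h1 : IsProper p := by
    obtain ⟨n, i, hi, rfl⟩ := hp
    infer_instance
  have h2 : IsLocallyNoetherian X := LocallyOfFiniteType.isLocallyNoetherian p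
  have h3 : CompactSpace X := QuasiCompact.compactSpace_of_compactSpace p
  exact ⟨h1, { }⟩

theorem main (hCen : Center K) (hCmp : Cmp K) (hStar : DParts.Star K) (hNB : NBEx K) (hFin : Fin1 K) (m : ℕ) :
    ∀ (X : Scheme.{u}) (p : X ⟶ Spec (CommRingCat.of K)) (_ : IsIntegral X), Pi1.IsNormalScheme X →
      RelProj.IsHProjective p → ∀ (ι : Type) (_ : Finite ι) (F : ι → X.IdealSheafData) (h : HasCh p F),
      (∀ x, mu hCen h x ≤ m) → Res p F := by
  induction m with
  | zero =>
    intro X p hX hn hp ι _ F h hm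
    exfalso
    obtain ⟨U, c, h1, h2, h3, h4⟩ := exists_centered_mu hCen hCmp h (genericPoint X) ⊤ trivial
    have h5 := hm (genericPoint X)
    rw [h4] at h5
    exact Tor.mult_ne_zero c.dat (Nat.le_zero.1 h5)
  | succ m ih =>
    have inner : ∀ (k : ℕ) (X : Scheme.{u}) (p : X ⟶ Spec (CommRingCat.of K)) (_ : IsIntegral X),
        Pi1.IsNormalScheme X → RelProj.IsHProjective p → ∀ (ι : Type) (_ : Finite ι)
        (F : ι → X.IdealSheafData) (h : HasCh p F), (∀ x, mu hCen h x ≤ m + 1) →
        (Nm hCen h (m + 1)).ncard ≤ k → Res p F := by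
      intro k
      induction k with
      | zero =>
        intro X p hX hn hp ι _ F h hm hk
        obtain ⟨-, _⟩ := isNoetherian_of_isHProjective hp
        have hfin : (Nm hCen h (m + 1)).Finite := (finite_G F).subset fun _ hx => hx.1
        have hemp : Nm hCen h (m + 1) = ∅ := (Set.ncard_eq_zero hfin).1 (Nat.le_zero.1 hk)
        refine ih X p hX hn hp ι inferInstance F h fun x => ?_
        obtain ⟨y, hy, hyx, hl⟩ := exists_mem_G F x
        have h1 := mu_eq_of_specializes hCen hCmp h hyx hl
        have h2 : mu hCen h y ≠ m + 1 := fun h3 => by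
          have : y ∈ Nm hCen h (m + 1) := ⟨hy, h3⟩
          rw [hemp] at this
          exact this
        have h4 := hm y
        omega
      | succ k ihk =>
        intro X p hX hn hp ι _ F h hm hk
        obtain ⟨hprop, _⟩ := isNoetherian_of_isHProjective hp
        have hfin : (Nm hCen h (m + 1)).Finite := (finite_G F).subset fun _ hx => hx.1
        by_cases hm0 : m = 0
        · -- multiplicity one everywhere
          subst hm0
          cases nonempty_fintype ι
          let r := Fintype.card ι
          let e : ι ≃ Fin r := Fintype.equivFin ι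
          have h1 : Smooth p ∧ ∃ D : Fin r → X.IdealSheafData, LogNCD.IsNCD D p ∧
              ∀ i, ((D i).support : Set X) = ((F (e.symm i)).support : Set X) := by
            refine hFin X p hX r (fun i => F (e.symm i)) inferInstance fun x => ?_
            obtain ⟨U, c, h1, h2, h3, h4⟩ := exists_centered_mu hCen hCmp h x ⊤ trivial
            refine ⟨U, { P := c.P, I := c.I, v := c.v, lab := fun i => e (c.lab i)
                         lab_inj := e.injective.comp c.lab_inj
                         dat := c.dat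
                         ψ := c.ψ
                         ψ_k := c.ψ_k
                         smooth := c.smooth
                         ideal_lab := fun i => by
                           simp only [Equiv.symm_apply_apply]
                           exact c.ideal_lab i
                         ideal_notMem := fun j hj => c.ideal_notMem _ fun ⟨i, hi⟩ => hj ⟨i, by
                           change e (c.lab i) = j
                           rw [hi, Equiv.apply_symm_apply]⟩ }, h1, fun i => ?_, ?_⟩
            · simp only [Equiv.symm_apply_apply]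
              exact h3 i
            · have h5 := hm x
              rw [h4] at h5
              have h6 := Tor.mult_ne_zero c.dat
              change Tor.mult c.v = 1
              omega
          obtain ⟨hs, D, hD, hDs⟩ := h1
          refine ⟨X, 𝟙 X, r, D, hX, by rwa [Category.id_comp], ?_, by rwa [Category.id_comp],
            by rwa [Category.id_comp], ?_⟩
          · have : Nonempty X := inferInstance
            exact K588.Bir.isBir_id X
          · ext x
            simp only [Set.mem_preimage, Scheme.Hom.id_base, supp, Set.mem_iUnion]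
            constructor
            · rintro ⟨l, hl⟩
              refine ⟨e l, ?_⟩
              rw [hDs, Equiv.symm_apply_apply]
              exact hl
            · rintro ⟨i, hi⟩
              rw [hDs] at hi
              exact ⟨_, hi⟩
        · by_cases hne : (Nm hCen h (m + 1)).Nonempty
          · obtain ⟨x, hx⟩ := hne
            obtain ⟨s⟩ := exists_step hCen hCmp hStar hNB hn hp h x (by rw [hx.2]; omega)
            have := s.int
            refine res_of_step hCen s (ihk s.X₁ (s.φ ≫ p) s.int s.normal s.proj (Option ι) inferInstance s.F' s.h'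
              (fun x₁ => ?_) ?_)
            · by_cases hx₁ : s.φ x₁ ∈ s.W
              · rw [s.eq x₁ hx₁]; exact hm _
              · exact (s.lt x₁ hx₁).le.trans (hm _)
            · have := ncard_lt hCen s (m + 1) hm hx hfin
              omega
          · have hemp : Nm hCen h (m + 1) = ∅ := Set.not_nonempty_iff_eq_empty.1 hne
            refine ih X p hX hn hp ι inferInstance F h fun x => ?_
            obtain ⟨y, hy, hyx, hl⟩ := exists_mem_G F x
            have h1 := mu_eq_of_specializes hCen hCmp h hyx hl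
            have h2 : mu hCen h y ≠ m + 1 := fun h3 => by
              have : y ∈ Nm hCen h (m + 1) := ⟨hy, h3⟩
              rw [hemp] at this
              exact this
            have h4 := hm y
            omega
    intro X p hX hn hp ι _ F h hm
    exact inner _ X p hX hn hp ι inferInstance F h hm le_rfl

/-- bounded multiplicities -/
theorem exists_bound (hCen : Center K) (hCmp : Cmp K) {X : Scheme.{u}} {p : X ⟶ Spec (CommRingCat.of K)}
    [hX : IsIntegral X] [IsNoetherian X] {ι : Type} [Finite ι] {F : ι → X.IdealSheafData} (h : HasCh p F) :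
    ∃ m, ∀ x, mu hCen h x ≤ m := by
  obtain ⟨m, hm⟩ := ((finite_G F).image (mu hCen h)).bddAbove
  refine ⟨m, fun x => ?_⟩
  obtain ⟨y, hy, hyx, hl⟩ := exists_mem_G F x
  rw [← mu_eq_of_specializes hCen hCmp h hyx hl]
  exact hm ⟨y, hy, rfl⟩

theorem res (hCen : Center K) (hCmp : Cmp K) (hStar : DParts.Star K) (hNB : NBEx K) (hFin : Fin1 K)
    (X : Scheme.{u}) (p : X ⟶ Spec (CommRingCat.of K)) [hX : IsIntegral X] (hn : Pi1.IsNormalScheme X)
    (hp : RelProj.IsHProjective p) (ι : Type) [Finite ι] (F : ι → X.IdealSheafData) (h : HasCh p F) : Res p F := by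
  obtain ⟨-, _⟩ := isNoetherian_of_isHProjective hp
  obtain ⟨m, hm⟩ := exists_bound hCen hCmp h
  exact main hCen hCmp hStar hNB hFin m X p hX hn hp ι inferInstance F h hm

end K84.Induct
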