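import Groth.Agent.Resolve.K84.DParts
import Mathlib.Topology.NoetherianSpace
import Mathlib.Topology.Sober

/-!
# Node D: the multiplicity at a point, and the finite set of generic points of strata
-/

set_option autoImplicit false
universe u

open CategoryTheory AlgebraicGeometry TopologicalSpace

namespace K84.Meas

open K84.Iface K84.DParts

/-- Lattices which correspond to each other under a bijection of the forms have the same multiplicity. -/
theorem mult_eq {P₁ P₂ I₁ I₂ : Type} [AddCommGroup P₁] [AddCommGroup P₂] (v₁ : I₁ → P₁ →+ ℤ)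
    (v₂ : I₂ → P₂ →+ ℤ) (σ : I₁ ≃ I₂) (h₁ : ∀ m₁, ∃ m₂, ∀ i, v₁ i m₁ = v₂ (σ i) m₂)
    (h₂ : ∀ m₂, ∃ m₁, ∀ i, v₁ i m₁ = v₂ (σ i) m₂) : Tor.mult v₁ = Tor.mult v₂ := by
  let E : (I₂ → ℤ) ≃+ (I₁ → ℤ) :=
    { toFun := fun n i => n (σ i)
      invFun := fun n i => n (σ.symm i)
      left_inv := fun n => by ext i; simp
      right_inv := fun n => by ext i; simp
      map_add' := fun _ _ => rfl }
  have h : Tor.lat v₁ = (Tor.lat v₂).map E.toAddMonoidHom := by
    ext n
    rw [Tor.mem_lat, AddSubgroup.mem_map]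
    constructor
    · rintro ⟨m₁, hm⟩
      obtain ⟨m₂, h2⟩ := h₁ m₁
      refine ⟨fun i => v₂ i m₂, Tor.mem_lat.2 ⟨m₂, fun _ => rfl⟩, ?_⟩
      ext i
      exact (h2 i).symm.trans (hm i)
    · rintro ⟨n', hn', rfl⟩
      obtain ⟨m₂, h2⟩ := Tor.mem_lat.1 hn'
      obtain ⟨m₁, h3⟩ := h₂ m₂
      exact ⟨m₁, fun i => (h3 i).trans (h2 _)⟩
  unfold Tor.mult
  rw [h]
  exact AddSubgroup.index_map_equiv _ E

section

variable {K : Type u} [Field K] {X : Scheme.{u}} {p : X ⟶ Spec (CommRingCat.of K)} {ι : Type}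
  {F : ι → X.IdealSheafData}

theorem notMem_support_of_top {I : X.IdealSheafData} {U : X.affineOpens} (h : I.ideal U = ⊤) {x : X}
    (hx : x ∈ U.1) : x ∉ I.support := by
  rw [Scheme.IdealSheafData.mem_support_iff_of_mem hx, h]
  simp only [Scheme.mem_zeroLocus_iff]
  intro h1
  exact h1 1 (by simp) (by simpa using hx)

theorem mem_range_lab {U : X.affineOpens} (c : FChart p F U) {x : X} (hx : x ∈ U.1) {l : ι}
    (hl : x ∈ (F l).support) : l ∈ Set.range c.lab := by
  by_contra h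
  exact notMem_support_of_top (c.ideal_notMem l h) hx hl

variable (p F) in
/-- charts everywhere -/
def HasCh : Prop := ∀ x : X, ∃ U : X.affineOpens, x ∈ U.1 ∧ Nonempty (FChart p F U)

theorem exists_centered (hCen : Center K) [hX : IsIntegral X] (h : HasCh p F) (x : X) (W : X.Opens) (hW : x ∈ W) :
    ∃ (U : X.affineOpens) (c : FChart p F U), x ∈ U.1 ∧ U.1 ≤ W ∧ c.Centered x := by
  obtain ⟨U, hxU, ⟨c⟩⟩ := h x
  obtain ⟨U', c', e, h1, h2, h3, h4, -⟩ := hCen X p hX ι F U c x hxU W hW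
  exact ⟨U', c', h1, h3, h4⟩

theorem mult_centered_eq (hCmp : Cmp K) [hX : IsIntegral X] {U₁ U₂ : X.affineOpens} (c₁ : FChart p F U₁)
    (c₂ : FChart p F U₂) {x : X} (h₁ : x ∈ U₁.1) (h₂ : x ∈ U₂.1) (hc₁ : c₁.Centered x) (hc₂ : c₂.Centered x) :
    Tor.mult c₁.v = Tor.mult c₂.v := by
  have e1 : ∀ i₁, ∃ i₂, c₁.lab i₁ = c₂.lab i₂ := fun i₁ => by
    obtain ⟨i₂, hi⟩ := mem_range_lab c₂ h₂ (hc₁ i₁)
    exact ⟨i₂, hi.symm⟩
  have e2 : ∀ i₂, ∃ i₁, c₁.lab i₁ = c₂.lab i₂ := fun i₂ => by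
    obtain ⟨i₁, hi⟩ := mem_range_lab c₁ h₁ (hc₂ i₂)
    exact ⟨i₁, hi⟩
  choose f hf using e1
  choose g hg using e2
  let σ : c₁.I ≃ c₂.I :=
    { toFun := f
      invFun := g
      left_inv := fun i => c₁.lab_inj ((hg _).trans (hf i).symm)
      right_inv := fun i => c₂.lab_inj ((hf _).symm.trans (hg i)) }
  refine mult_eq c₁.v c₂.v σ (fun m₁ => ?_) (fun m₂ => ?_)
  · obtain ⟨m₂, hm⟩ := (hCmp X p hX ι F U₁ U₂ c₁ c₂ x h₁ h₂).1 m₁
    exact ⟨m₂, fun i => hm i (f i) (hf i) (hc₁ i)⟩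
  · obtain ⟨m₁, hm⟩ := (hCmp X p hX ι F U₂ U₁ c₂ c₁ x h₂ h₁).1 m₂
    exact ⟨m₁, fun i => (hm (f i) i (hf i).symm (hc₂ (f i))).symm⟩

/-- The multiplicity at a point. -/
noncomputable def mu (hCen : Center K) [IsIntegral X] (h : HasCh p F) (x : X) : ℕ :=
  Tor.mult (exists_centered hCen h x ⊤ trivial).choose_spec.choose.v

theorem mu_eq (hCen : Center K) (hCmp : Cmp K) [IsIntegral X] (h : HasCh p F) {x : X} {U : X.affineOpens}
    (c : FChart p F U) (hx : x ∈ U.1) (hc : c.Centered x) : mu hCen h x = Tor.mult c.v := by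
  have h1 := (exists_centered hCen h x ⊤ trivial).choose_spec.choose_spec
  exact mult_centered_eq hCmp _ c h1.1 hx h1.2.2 hc

theorem mu_le (hCen : Center K) (hCmp : Cmp K) [hX : IsIntegral X] (h : HasCh p F) {x : X} {U : X.affineOpens}
    (c : FChart p F U) (hx : x ∈ U.1) : mu hCen h x ≤ Tor.mult c.v := by
  obtain ⟨U', c', e, h1, h2, h3, h4, -, -, -, h5⟩ := hCen X p hX ι F U c x hx ⊤ trivial
  rw [mu_eq hCen hCmp h c' h1 h4]
  exact h5

theorem exists_centered_mu (hCen : Center K) (hCmp : Cmp K) [hX : IsIntegral X] (h : HasCh p F) (x : X)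
    (W : X.Opens) (hW : x ∈ W) :
    ∃ (U : X.affineOpens) (c : FChart p F U), x ∈ U.1 ∧ U.1 ≤ W ∧ c.Centered x ∧ mu hCen h x = Tor.mult c.v := by
  obtain ⟨U, c, h1, h2, h3⟩ := exists_centered hCen h x W hW
  exact ⟨U, c, h1, h2, h3, mu_eq hCen hCmp h c h1 h3⟩

theorem mu_eq_of_specializes (hCen : Center K) (hCmp : Cmp K) [hX : IsIntegral X] (h : HasCh p F) {x y : X}
    (hyx : y ⤳ x) (hl : ∀ l, x ∈ (F l).support → y ∈ (F l).support) : mu hCen h y = mu hCen h x := by
  obtain ⟨U, c, h1, h2, h3, h4⟩ := exists_centered_mu hCen hCmp h x ⊤ trivial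
  rw [h4]
  exact mu_eq hCen hCmp h c (hyx.mem_open U.1.2 h1) (fun i => hl _ (h3 i))

end

section Gen

variable {X : Scheme.{u}} {ι : Type} (F : ι → X.IdealSheafData)

/-- The generic points of the strata. -/
def G : Set X := {x | ∀ y, y ⤳ x → (∀ l, x ∈ (F l).support → y ∈ (F l).support) → y = x}

/-- The intersection of the supports of the labels in `S`. -/
def E (S : Set ι) : Set X := {x | ∀ l ∈ S, x ∈ (F l).support}

theorem isClosed_E (S : Set ι) : IsClosed (E F S) := by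
  have : E F S = ⋂ l ∈ S, ((F l).support : Set X) := by
    ext x; simp [E]
  rw [this]
  exact isClosed_biInter fun l _ => (F l).support.isClosed

theorem finite_G [Finite ι] [NoetherianSpace X] : (G F).Finite := by
  have key : ∀ S : Set ι, {x | x ∈ G F ∧ {l | x ∈ (F l).support} = S}.Finite := by
    intro S
    obtain ⟨T, hT, hTc, hTi, hTu⟩ := NoetherianSpace.exists_finite_set_isClosed_irreducible (isClosed_E F S)
    have : {x | x ∈ G F ∧ {l | x ∈ (F l).support} = S} ⊆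
        {x | ∃ t ∈ T, IsGenericPoint x t} := by
      rintro x ⟨hx, hS⟩
      have hxE : x ∈ E F S := fun l hl => by rw [← hS] at hl; exact hl
      rw [hTu] at hxE
      obtain ⟨t, ht, hxt⟩ := hxE
      obtain ⟨y, hy⟩ := QuasiSober.sober (hTi t ht) (hTc t ht)
      have hyx : y ⤳ x := by
        rw [specializes_iff_mem_closure, hy.def]
        exact hxt
      have hyE : y ∈ E F S := by
        rw [hTu]
        exact ⟨t, ht, hy.mem⟩
      have := hx y hyx (fun l hl => hyE l (by rw [← hS]; exact hl))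
      exact ⟨t, ht, this ▸ hy⟩
    refine Set.Finite.subset ?_ this
    have h2 : {x : X | ∃ t ∈ T, IsGenericPoint x t} = ⋃ t ∈ T, {x | IsGenericPoint x t} := by
      ext x; simp
    rw [h2]
    refine hT.biUnion fun t _ => Set.Subsingleton.finite fun x hx y hy => ?_
    exact hx.eq hy
  have h3 : G F = ⋃ S : Set ι, {x | x ∈ G F ∧ {l | x ∈ (F l).support} = S} := by
    ext x; simp
  rw [h3]
  exact Set.finite_iUnion key

theorem exists_mem_G (x : X) : ∃ y ∈ G F, y ⤳ x ∧ ∀ l, x ∈ (F l).support → y ∈ (F l).support := by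
  set S : Set ι := {l | x ∈ (F l).support} with hS
  have hxE : x ∈ E F S := fun l hl => hl
  have hq : QuasiSober (E F S) := (isClosed_E F S).isClosedEmbedding_subtypeVal.quasiSober
  let z : E F S := ⟨x, hxE⟩
  obtain ⟨y, hy⟩ := QuasiSober.sober (isIrreducible_irreducibleComponent (x := z)) isClosed_irreducibleComponent
  have hyz : y ⤳ z := by
    rw [specializes_iff_mem_closure, hy.def]
    exact mem_irreducibleComponent
  have hyx : y.1 ⤳ x := hyz.map continuous_subtype_val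
  refine ⟨y.1, fun w hw hl => ?_, hyx, fun l hl => y.2 l hl⟩
  have hwE : w ∈ E F S := fun l hl' => hl l (y.2 l hl')
  have hwy : (⟨w, hwE⟩ : E F S) ⤳ y := (subtype_specializes_iff _ _).2 hw
  have h1 : irreducibleComponent z ⊆ closure {(⟨w, hwE⟩ : E F S)} := by
    rw [← hy.def]
    exact closure_minimal (Set.singleton_subset_iff.2 (specializes_iff_mem_closure.1 hwy)) isClosed_closure
  have h2 : closure {(⟨w, hwE⟩ : E F S)} = irreducibleComponent z :=
    eq_irreducibleComponent isIrreducible_singleton.closure.2 h1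
  have h3 : IsGenericPoint (⟨w, hwE⟩ : E F S) (irreducibleComponent z) := h2
  exact congrArg Subtype.val (h3.eq hy)

end Gen

end K84.Meas
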