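import Groth.Agent.Resolve.K84.Induct
import Groth.Agent.Resolve.K937.CmpThm
import Groth.Agent.Resolve.K73.CenterThm
import Groth.Agent.Resolve.K631.Fin1

/-!
# Node D from the star step and the normalized blow-up
-/

set_option autoImplicit false
universe u

open CategoryTheory AlgebraicGeometry TopologicalSpace

namespace K84.NodeDThm

open K84.Iface K84.DParts K84.Meas

variable {K : Type u} [Field K]

section
variable {X : Scheme.{u}} {p : X ⟶ Spec (CommRingCat.of K)} {ι : Type} {F : ι → X.IdealSheafData}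
  {U : X.affineOpens}

/-- the coordinates -/
def vM {I : Type} (M : AddSubgroup (I → ℤ)) (i : I) : M →+ ℤ := (Pi.evalAddMonoidHom (fun _ : I => ℤ) i).comp M.subtype

theorem vM_apply {I : Type} (M : AddSubgroup (I → ℤ)) (i : I) (m : M) : vM M i m = m.1 i := rfl

theorem free_sub {I : Type} [Finite I] (M : AddSubgroup (I → ℤ)) : Module.Free ℤ M ∧ Module.Finite ℤ M := by
  have h1 : Module.Finite ℤ (AddSubgroup.toIntSubmodule M) := inferInstance
  have h2 : Module.Free ℤ (AddSubgroup.toIntSubmodule M) := inferInstance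
  exact ⟨h2, h1⟩

/-- `cone v` and `pos M` -/
def eqv {I : Type} (M : AddSubgroup (I → ℤ)) : Tor.cone (vM M) ≃+ pos M where
  toFun m := ⟨m.1.1, m.1.2, m.2⟩
  invFun m := ⟨⟨m.1, m.2.1⟩, m.2.2⟩
  left_inv _ := rfl
  right_inv _ := rfl
  map_add' _ _ := rfl

/-- the chart as a flexible chart -/
noncomputable def toF (c : Chart p F U) : FChart p F U :=
  haveI := (free_sub c.M).1
  haveI := (free_sub c.M).2
  { P := c.M
    I := c.I
    v := vM c.M
    lab := Subtype.val
    lab_inj := Subtype.val_injective
    dat :=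
      { q := fun i => ⟨ax i (c.d i : ℤ), c.d_mem i⟩
        pos := fun i => by
          change 0 < ax i (c.d i : ℤ) i
          rw [ax_self]
          exact_mod_cast c.d_pos i
        ne := fun i j h => by
          change ax i (c.d i : ℤ) j = 0
          rw [ax_ne h]
        onto := fun i n => by
          obtain ⟨m, hm, h1⟩ := c.onto i
          refine ⟨n • ⟨m, hm⟩, ?_⟩
          rw [map_zsmul]
          change n • m i = n
          rw [h1]
          simp }
    ψ := c.ψ.comp (AddMonoidAlgebra.mapDomainRingEquiv K (eqv c.M)).toRingHom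
    ψ_k := fun r => by
      rw [← c.ψ_k]
      simp [eqv]
      rfl
    smooth := RingHom.Smooth.comp (RingHom.Smooth.of_bijective (RingEquiv.bijective _)) c.smooth
    ideal_lab := fun i => by
      rw [c.ideal_mem i]
      simp [Tor.mon, eqv]
    ideal_notMem := fun j hj => c.ideal_notMem j fun h => hj ⟨⟨j, h⟩, rfl⟩ }

end

theorem hasCh_of_isKT {X : Scheme.{u}} {p : X ⟶ Spec (CommRingCat.of K)} {ι : Type} {F : ι → X.IdealSheafData}
    (h : IsKT p F) : HasCh p F := fun x => by
  obtain ⟨U, hx, ⟨c⟩⟩ := h x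
  exact ⟨U, hx, ⟨toF c⟩⟩

theorem isNormal_of_hasCh {X : Scheme.{u}} {p : X ⟶ Spec (CommRingCat.of K)} {ι : Type} {F : ι → X.IdealSheafData}
    (h : HasCh p F) [IsIntegral X] : Pi1.IsNormalScheme X := fun x => by
  obtain ⟨U, hx, ⟨c⟩⟩ := h x
  obtain ⟨h1, h2, -⟩ := K937.CmpThm.good c hx
  exact ⟨h1, h2⟩

/-- **Node D** from the star subdivision and the existence of normalized blow-ups. -/
theorem main (hStar : DParts.Star K) (hNB : NBEx K) : NodeD K := by
  intro X p hX hp r F hF
  have h := hasCh_of_isKT hF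
  exact Induct.res (K73.CenterThm.main K) (K937.CmpThm.main K) hStar hNB (K631.Fin1.main K) X p
    (isNormal_of_hasCh h) hp (Fin r) F h

end K84.NodeDThm
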