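import Groth.Agent.Resolve.K84.Good
import Groth.Agent.Resolve.K84.GlueJ
import Groth.Agent.Resolve.K588.Bir
import Groth.Agent.Resolve.K937.MonCmp
import Groth.Agent.Dix.InterSurf

/-!
# Node D: preliminaries to the star step (effectivity of the labels, weights and exponents, transport of charts)
-/

set_option autoImplicit false
universe u

open CategoryTheory AlgebraicGeometry TopologicalSpace

namespace K84.StepA

open K84.Iface K84.DParts K84.Meas K84.Good

section

variable {K : Type u} [Field K] {X : Scheme.{u}} {p : X ⟶ Spec (CommRingCat.of K)} {ι : Type}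
  {F : ι → X.IdealSheafData}

theorem psi_mem {U : X.affineOpens} (c : FChart p F U) {m : c.P} (hm : m ∈ Tor.cone c.v) :
    c.ψ (Tor.mon K hm) ∈ nonZeroDivisors Γ(X, U.1) := by
  have hd : IsDomain (Tor.Alg K c.v) := K937.MonCmp.isDomain_alg c.v
  have hflat : c.ψ.Flat := by
    have := c.smooth
    algebraize [c.ψ]
    exact (inferInstance : Module.Flat (Tor.Alg K c.v) Γ(X, U.1))
  have h0 : Tor.mon K hm ≠ 0 := by
    unfold Tor.mon
    rw [Ne, AddMonoidAlgebra.single_eq_zero]
    exact one_ne_zero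
  exact Groth.Agent.Divis.EffCartier.map_mem_nonZeroDivisors_of_flat c.ψ hflat (mem_nonZeroDivisors_of_ne_zero h0)

theorem isEff (h : HasCh p F) (l : ι) : BlowUp.IsEffCartierIdeal (F l) := by
  intro x
  obtain ⟨U, hxU, ⟨c⟩⟩ := h x
  refine ⟨U, hxU, ?_⟩
  by_cases hl : l ∈ Set.range c.lab
  · obtain ⟨i, rfl⟩ := hl
    exact ⟨_, psi_mem c (c.dat.mem i), c.ideal_lab i⟩
  · exact ⟨1, one_mem _, by rw [c.ideal_notMem l hl, Ideal.span_singleton_one]⟩

theorem generic_notMem [IsIntegral X] (h : HasCh p F) (l : ι) : genericPoint X ∉ (F l).support := by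
  intro hx
  obtain ⟨U, hxU, ⟨c⟩⟩ := h (genericPoint X)
  obtain ⟨i, rfl⟩ := mem_range_lab c hxU hx
  rw [Scheme.IdealSheafData.mem_support_iff_of_mem hxU, c.ideal_lab i] at hx
  have h1 := psi_mem c (c.dat.mem i)
  have h2 : X.basicOpen (c.ψ (Tor.mon K (c.dat.mem i))) ≠ ⊥ := by
    rw [Ne, basicOpen_eq_bot_iff]
    have : Nonempty U.1 := ⟨⟨_, hxU⟩⟩
    exact nonZeroDivisors.ne_zero h1
  have h3 : genericPoint X ∈ X.basicOpen (c.ψ (Tor.mon K (c.dat.mem i))) := by
    refine K588.Bir.genericPoint_mem ?_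
    by_contra hne
    exact h2 (by
      ext1
      exact Set.not_nonempty_iff_eq_empty.1 hne)
  simp only [Scheme.mem_zeroLocus_iff] at hx
  exact hx _ (Ideal.subset_span rfl) h3

end

/-- weights and exponents of a star subdivision -/
theorem exists_weights {K : Type u} [Field K] {X : Scheme.{u}} {p : X ⟶ Spec (CommRingCat.of K)} {ι : Type} [Finite ι]
    {F : ι → X.IdealSheafData} {U : X.affineOpens} (c : FChart p F U) (h1 : Tor.mult c.v ≠ 1) :
    ∃ (a : ι → ℚ) (g e : ι → ℕ) (c0 : ℕ), (∀ l, 0 ≤ a l) ∧ (∀ l, a l < 1) ∧ (∃ l, 0 < a l) ∧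
      (∀ l, 0 < a l → l ∈ Set.range c.lab) ∧ GoodC a g c ∧ (∀ l, e l ≠ 0) ∧ (∀ l, a l = 0 → e l = 1) ∧ 0 < c0 ∧
      (∀ l, 0 < a l → e l * g l = c0) := by
  classical
  cases nonempty_fintype ι
  obtain ⟨aI, w, hbox, i₀, hi₀⟩ := Tor.exists_box c.dat h1
  let a : ι → ℚ := fun l => ∑ i, if c.lab i = l then aI i else 0
  have halab : ∀ i, a (c.lab i) = aI i := fun i => by
    change ∑ j, (if c.lab j = c.lab i then aI j else 0) = aI i
    rw [Finset.sum_eq_single i]
    · simp
    · intro j _ hj; rw [if_neg (fun h => hj (c.lab_inj h))]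
    · intro h; exact absurd (Finset.mem_univ i) h
  have hanot : ∀ l, l ∉ Set.range c.lab → a l = 0 := fun l hl =>
    Finset.sum_eq_zero fun i _ => if_neg fun h => hl ⟨i, h⟩
  let g : ι → ℕ := fun l => ∑ i, if c.lab i = l then (w (c.dat.q i)).toNat else 0
  have hglab : ∀ i, g (c.lab i) = (w (c.dat.q i)).toNat := fun i => by
    change ∑ j, (if c.lab j = c.lab i then (w (c.dat.q j)).toNat else 0) = (w (c.dat.q i)).toNat
    rw [Finset.sum_eq_single i]
    · simp
    · intro j _ hj; rw [if_neg (fun h => hj (c.lab_inj h))]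
    · intro h; exact absurd (Finset.mem_univ i) h
  have hwq : ∀ i, (w (c.dat.q i) : ℚ) = aI i * (c.v i (c.dat.q i) : ℚ) := fun i => by
    rw [hbox.eq, Finset.sum_eq_single i]
    · intro j _ hj; rw [c.dat.ne i j hj]; simp
    · intro h; exact absurd (Finset.mem_univ _) h
  have hwpos : ∀ i, 0 < aI i → 0 < w (c.dat.q i) := fun i hi => by
    have h2 : (0 : ℚ) < (w (c.dat.q i) : ℚ) := by
      rw [hwq]
      exact mul_pos hi (by exact_mod_cast c.dat.pos i)
    exact_mod_cast h2
  have hrange : ∀ l, 0 < a l → l ∈ Set.range c.lab := fun l hl => by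
    by_contra hn
    rw [hanot l hn] at hl
    exact lt_irrefl _ hl
  have hgpos : ∀ l, 0 < a l → 0 < g l := fun l hl => by
    obtain ⟨i, rfl⟩ := hrange l hl
    rw [hglab]
    have := hwpos i (by rw [← halab]; exact hl)
    omega
  let τ : Finset ι := Finset.univ.filter fun l => 0 < a l
  have hτ : ∀ l, l ∈ τ ↔ 0 < a l := fun l => by simp [τ]
  let e : ι → ℕ := fun l => if 0 < a l then ∏ k ∈ τ.erase l, g k else 1
  refine ⟨a, g, e, ∏ k ∈ τ, g k, fun l => ?_, fun l => ?_, ⟨c.lab i₀, by rw [halab]; exact hi₀⟩, hrange,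
    ⟨w, ⟨fun i => ?_, fun i => ?_, fun m => ?_, hbox.onto⟩, fun i hi => ?_⟩, fun l => ?_, fun l hl => ?_, ?_,
    fun l hl => ?_⟩
  · exact Finset.sum_nonneg fun i _ => by split_ifs; exacts [hbox.nonneg i, le_rfl]
  · by_cases hl : l ∈ Set.range c.lab
    · obtain ⟨i, rfl⟩ := hl
      rw [halab]; exact hbox.lt_one i
    · rw [hanot l hl]; exact one_pos
  · rw [halab]; exact hbox.nonneg i
  · rw [halab]; exact hbox.lt_one i
  · simp_rw [halab]; exact hbox.eq m
  · rw [hglab]
    have := hwpos i (by rw [← halab]; exact hi)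
    exact (Int.toNat_of_nonneg this.le).symm
  · change (if 0 < a l then ∏ k ∈ τ.erase l, g k else 1) ≠ 0
    split_ifs
    · refine Finset.prod_ne_zero_iff.2 fun k hk => ?_
      exact (hgpos k ((hτ k).1 (Finset.mem_of_mem_erase hk))).ne'
    · exact one_ne_zero
  · change (if 0 < a l then ∏ k ∈ τ.erase l, g k else 1) = 1
    rw [if_neg (by rw [hl]; exact lt_irrefl _)]
  · exact Finset.prod_pos fun k hk => hgpos k ((hτ k).1 hk)
  · change (if 0 < a l then ∏ k ∈ τ.erase l, g k else 1) * g l = _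
    rw [if_pos hl]
    exact Finset.prod_erase_mul _ _ ((hτ l).2 hl)

end K84.StepA
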