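import Groth.Agent.Resolve.K84.StepA
import Groth.Agent.Variety.K422.ClosedUnion

/-!
# Node D: transport of a chart along a local isomorphism, with powers of the labels
-/

set_option autoImplicit false
universe u

open CategoryTheory AlgebraicGeometry TopologicalSpace

namespace K84.StepB

open K84.Iface K84.DParts K84.Meas K84.Good Groth.Agent.Divis.IdealComap

variable {K : Type u} [Field K]

theorem kmap_comp {X X₁ : Scheme.{u}} (p : X ⟶ Spec (CommRingCat.of K)) (φ : X₁ ⟶ X) (U : X.Opens) (V : X₁.Opens)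
    (e : V ≤ φ ⁻¹ᵁ U) (c : K) : (φ.appLE U V e).hom (kmap p U c) = kmap (φ ≫ p) V c := by
  have h := Scheme.Hom.appLE_comp_appLE φ p ⊤ U V le_top e
  have h' : ((Scheme.ΓSpecIso (CommRingCat.of K)).inv ≫ p.appLE ⊤ U le_top) ≫ φ.appLE U V e =
      (Scheme.ΓSpecIso (CommRingCat.of K)).inv ≫ (φ ≫ p).appLE ⊤ V le_top := by
    rw [Category.assoc, h]
  exact congrArg (fun t : CommRingCat.of K ⟶ Γ(X₁, V) => t.hom c) h'

theorem mon_pow {P I : Type} [AddCommGroup P] {v : I → P →+ ℤ} {m : P} (hm : m ∈ Tor.cone v) (n : ℕ)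
    (hnm : n • m ∈ Tor.cone v) : Tor.mon K hm ^ n = Tor.mon K hnm := by
  unfold Tor.mon
  rw [AddMonoidAlgebra.single_pow, one_pow]
  rfl

/-- scale the dual vectors -/
def scale {P I : Type} [AddCommGroup P] {v : I → P →+ ℤ} (D : Tor.Dat v) (e : I → ℕ) (he : ∀ i, e i ≠ 0) :
    Tor.Dat v where
  q i := e i • D.q i
  pos i := by
    rw [map_nsmul, nsmul_eq_mul]
    have h1 := D.pos i
    have h2 : (0 : ℤ) < e i := by exact_mod_cast Nat.pos_of_ne_zero (he i)
    positivity
  ne i j h := by rw [map_nsmul, D.ne i j h, smul_zero]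
  onto := D.onto

theorem exists_transport {X X₁ : Scheme.{u}} {p : X ⟶ Spec (CommRingCat.of K)} {ι : Type}
    {F : ι → X.IdealSheafData} (φ : X₁ ⟶ X) (J : X.IdealSheafData) (U : X.affineOpens)
    (hiso : IsIso (φ ∣_ U.1)) (hJ : J.ideal U = ⊤) (c : FChart p F U) (a : ι → ℚ) (e : ι → ℕ)
    (ha : ∀ l, 0 ≤ a l) (he : ∀ l, e l ≠ 0) (he1 : ∀ l, a l = 0 → e l = 1)
    (F' : Option ι → X₁.IdealSheafData) (h0 : F' none = J.comap φ)
    (h1 : ∀ l, 0 < a l → F' (some l) * J.comap φ = (F l ^ e l).comap φ)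
    (h2 : ∀ l, a l = 0 → F' (some l) = (F l).comap φ) (x₁ : X₁) (hx : φ x₁ ∈ U.1) (hc : c.Centered (φ x₁))
    (hsupp : ∀ l, φ x₁ ∈ (F l).support → x₁ ∈ (F' (some l)).support) :
    ∃ (V : X₁.affineOpens) (c' : FChart (φ ≫ p) F' V), x₁ ∈ V.1 ∧ c'.Centered x₁ ∧
      Tor.mult c'.v = Tor.mult c.v := by
  have hV : IsAffineOpen (φ ⁻¹ᵁ U.1) := by
    have : IsAffine U.1 := U.2
    exact IsAffine.of_isIso (φ ∣_ U.1)
  let V : X₁.affineOpens := ⟨φ ⁻¹ᵁ U.1, hV⟩
  let ρ : Γ(X, U.1) →+* Γ(X₁, V.1) := (φ.appLE U.1 V.1 le_rfl).hom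
  have hρ : Function.Bijective ρ := by
    have h4 : φ.appLE U.1 V.1 le_rfl = φ.app U.1 := by
      rw [Scheme.Hom.appLE]
      have : (homOfLE (le_rfl : V.1 ≤ φ ⁻¹ᵁ U.1)).op = 𝟙 _ := rfl
      rw [this, CategoryTheory.Functor.map_id, Category.comp_id]
    change Function.Bijective (φ.appLE U.1 V.1 le_rfl).hom
    rw [h4]
    exact K422.ClosedUnion.bijective_app_of_isIso_restrict φ U.1
  -- the ideals on `V`
  have hJV : (J.comap φ).ideal V = ⊤ := by
    rw [ideal_comap J φ U V le_rfl, hJ, Ideal.map_top]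
  have hF : ∀ l, (F' (some l)).ideal V = ((F l).ideal U ^ e l).map ρ := by
    intro l
    rcases (ha l).eq_or_lt with h | h
    · rw [h2 l h.symm, he1 l h.symm, pow_one, ideal_comap (F l) φ U V le_rfl]
    · have h3 := congrArg (fun I : X₁.IdealSheafData => I.ideal V) (h1 l h)
      simp only [Scheme.IdealSheafData.ideal_mul, Pi.mul_apply] at h3
      rw [hJV, Ideal.mul_top] at h3
      rw [h3, ideal_comap (F l ^ e l) φ U V le_rfl]
      rfl
  refine ⟨V, { P := c.P, I := c.I, v := c.v, lab := fun i => some (c.lab i)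
               lab_inj := (Option.some_injective _).comp c.lab_inj
               dat := scale c.dat (fun i => e (c.lab i)) (fun i => he _)
               ψ := ρ.comp c.ψ
               ψ_k := fun k => ?_
               smooth := c.smooth.comp (RingHom.Smooth.of_bijective hρ)
               ideal_lab := fun i => ?_
               ideal_notMem := fun j hj => ?_ }, hx, fun i => hsupp _ (hc i), rfl⟩
  · rw [RingHom.comp_apply, c.ψ_k]
    exact kmap_comp p φ U.1 V.1 le_rfl k
  · rw [hF, c.ideal_lab i, Ideal.span_singleton_pow, Ideal.map_span, Set.image_singleton, ← map_pow,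
      mon_pow (c.dat.mem i) (e (c.lab i)) ((scale c.dat (fun i => e (c.lab i)) (fun i => he _)).mem i)]
    rfl
  · cases j with
    | none => rw [h0, hJV]
    | some l =>
      rw [hF, c.ideal_notMem l (fun ⟨i, hi⟩ => hj ⟨i, congrArg some hi⟩), Ideal.top_pow, Ideal.map_top]

end K84.StepB
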