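import Groth.Agent.Resolve.K84.StepB
import Groth.Agent.Divis.ColonIdeal

/-!
# Node D: the star step
-/

set_option autoImplicit false
universe u

open CategoryTheory AlgebraicGeometry TopologicalSpace

namespace K84.StepC

open K84.Iface K84.DParts K84.Meas K84.Good

variable {K : Type u} [Field K]

/-- The output of a star step. -/
structure Step (hCen : Center K) {X : Scheme.{u}} (p : X ⟶ Spec (CommRingCat.of K)) [IsIntegral X] {ι : Type}
    (F : ι → X.IdealSheafData) (h : HasCh p F) (x : X) where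
  X₁ : Scheme.{u}
  φ : X₁ ⟶ X
  F' : Option ι → X₁.IdealSheafData
  W : X.Opens
  int : IsIntegral X₁
  h' : HasCh (φ ≫ p) F'
  notMem : x ∉ W
  ne : (W : Set X).Nonempty
  iso : IsIso (φ ∣_ W)
  normal : Pi1.IsNormalScheme X₁
  proj : RelProj.IsHProjective (φ ≫ p)
  lt : ∀ x₁, φ x₁ ∉ W → mu hCen h' x₁ < mu hCen h (φ x₁)
  eq : ∀ x₁, φ x₁ ∈ W → mu hCen h' x₁ = mu hCen h (φ x₁)
  none_notMem : ∀ x₁, φ x₁ ∈ W → x₁ ∉ (F' none).support
  some_mem : ∀ x₁ l, φ x₁ ∈ W → (x₁ ∈ (F' (some l)).support ↔ φ x₁ ∈ (F l).support)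
  supp_eq : φ ⁻¹' (supp F) = supp F'

theorem mem_supp {X : Scheme.{u}} {ι : Type} {F : ι → X.IdealSheafData} {x : X} :
    x ∈ supp F ↔ ∃ l, x ∈ (F l).support := by
  simp [supp]

theorem mem_support_comap {X X₁ : Scheme.{u}} (φ : X₁ ⟶ X) (J : X.IdealSheafData) (x₁ : X₁) :
    x₁ ∈ (J.comap φ).support ↔ φ x₁ ∈ J.support := by
  rw [Scheme.IdealSheafData.support_comap]
  rfl

theorem exists_step (hCen : Center K) (hCmp : Cmp K) (hStar : DParts.Star K) (hNB : NBEx K)
    {X : Scheme.{u}} {p : X ⟶ Spec (CommRingCat.of K)} [hX : IsIntegral X] [IsLocallyNoetherian X]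
    (hn : Pi1.IsNormalScheme X) (hp : RelProj.IsHProjective p)
    {ι : Type} [Finite ι] {F : ι → X.IdealSheafData} (h : HasCh p F) (x : X) (hx : mu hCen h x ≠ 1) :
    Nonempty (Step hCen p F h x) := by
  classical
  obtain ⟨U, c, hxU, -, hc, hmu⟩ := exists_centered_mu hCen hCmp h x ⊤ trivial
  rw [hmu] at hx
  obtain ⟨a, g, e, c0, ha0, ha1, ⟨l₀, hl₀⟩, hrange, hgood, he, he1, hc0, heg⟩ := StepA.exists_weights c hx
  -- the two closed parts of the stratum
  let W0 : Set X := Wg p F a g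
  let W1 : Set X := Et F a \ Wg p F a g
  have hW0 : IsClosed W0 := isClosed_Wg hCmp ha0 ha1 h
  have hW1 : IsClosed W1 := isClosed_diff hCmp ha0 ha1 h
  have hxW : x ∈ W0 := ⟨fun l hl => by
    obtain ⟨i, rfl⟩ := hrange l hl
    exact hc i, U, c, hxU, hgood⟩
  -- the centre
  let J₀ : X.IdealSheafData := ⨆ l : {l // 0 < a l}, F l.1 ^ e l.1
  have hJ₀ : (J₀.support : Set X) = W0 ∪ W1 := by
    have h1 : (J₀.support : Set X) = Et F a := by
      ext z
      change z ∈ J₀.support ↔ _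
      rw [Scheme.IdealSheafData.support_iSup]
      simp only [Scheme.IdealSheafData.support_pow _ _ (he _)]
      rw [Et]
      simp
    rw [h1]
    ext z
    constructor
    · intro hz
      by_cases hz' : z ∈ W0
      · exact Or.inl hz'
      · exact Or.inr ⟨hz, hz'⟩
    · rintro (hz | hz)
      · exact hz.1
      · exact hz.1
  obtain ⟨J, hJU, hJs, hJle⟩ := GlueJ.exists_glue J₀ W0 W1 hW0 hW1 (fun z h1 h2 => h2.2 h1) hJ₀
  have hJmem : ∀ z, z ∈ J.support ↔ z ∈ W0 := fun z => by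
    rw [← hJs]; rfl
  have hη : genericPoint X ∉ W0 := fun hη => StepA.generic_notMem h l₀ (hη.1 l₀ hl₀)
  have hJne : J ≠ ⊥ := by
    rintro rfl
    apply hη
    rw [← hJmem, Scheme.IdealSheafData.support_bot]
    trivial
  obtain ⟨X₁, φ, hφ, hp₁⟩ := hNB X p hX hn hp J hJne
  have := hφ.int
  have := hφ.proper
  have : IsLocallyNoetherian X₁ := LocallyOfFiniteType.isLocallyNoetherian φ
  have hφη : φ (genericPoint X₁) = genericPoint X :=
    K588.Bir.map_genericPoint ⟨J.support.compl, hφ.ne, hφ.iso⟩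
  -- the strict transforms
  have hex : ∀ l, 0 < a l → ∃ L : X₁.IdealSheafData, L * J.comap φ = (F l ^ e l).comap φ := by
    intro l hl
    have hle : (F l ^ e l).comap φ ≤ J.comap φ := by
      refine Scheme.IdealSheafData.comap_mono (f := φ) ?_
      exact (le_iSup (fun l : {l // 0 < a l} => F l.1 ^ e l.1) ⟨l, hl⟩).trans hJle
    have heff : BlowUp.IsEffCartierIdeal ((F l ^ e l).comap φ) := by
      refine Groth.Agent.Dix.InterSurf.isEff_comap_of_generic φ
        (Groth.Agent.Divis.EffCartier.isEff_pow (StepA.isEff h l) _) ?_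
      rw [hφη, Scheme.IdealSheafData.support_pow _ _ (he _)]
      exact StepA.generic_notMem h l
    obtain ⟨L, -, hL⟩ := Groth.Agent.Divis.ColonIdeal.exists_mul_eq hφ.eff heff hle
    exact ⟨L, by rw [mul_comm]; exact hL⟩
  choose! L hL using hex
  let F' : Option ι → X₁.IdealSheafData := fun o => o.elim (J.comap φ)
    fun l => if 0 < a l then L l else (F l).comap φ
  have h0 : F' none = J.comap φ := rfl
  have h1 : ∀ l, 0 < a l → F' (some l) * J.comap φ = (F l ^ e l).comap φ := fun l hl => by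
    change (if 0 < a l then L l else (F l).comap φ) * _ = _
    rw [if_pos hl, hL l hl]
  have h2 : ∀ l, a l = 0 → F' (some l) = (F l).comap φ := fun l hl => by
    change (if 0 < a l then L l else (F l).comap φ) = _
    rw [if_neg (by rw [hl]; exact lt_irrefl _)]
  -- supports
  have hs1 : ∀ l x₁, φ x₁ ∈ (F l).support ↔
      (x₁ ∈ (F' (some l)).support ∨ (0 < a l ∧ φ x₁ ∈ W0)) := by
    intro l x₁
    rcases (ha0 l).eq_or_lt with hl | hl
    · rw [h2 l hl.symm, mem_support_comap]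
      constructor
      · exact Or.inl
      · rintro (h | h)
        · exact h
        · exact absurd h.1 (by rw [← hl]; exact lt_irrefl _)
    · have h3 := congrArg (fun I : X₁.IdealSheafData => x₁ ∈ I.support) (h1 l hl)
      simp only [Scheme.IdealSheafData.support_mul, mem_support_comap,
        Scheme.IdealSheafData.support_pow _ _ (he l)] at h3
      rw [← h3]
      change (x₁ ∈ (F' (some l)).support ∨ x₁ ∈ (J.comap φ).support) ↔ _
      rw [mem_support_comap, hJmem]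
      simp [hl]
  have hs2 : ∀ l x₁, φ x₁ ∉ W0 → (x₁ ∈ (F' (some l)).support ↔ φ x₁ ∈ (F l).support) := fun l x₁ hx₁ => by
    rw [hs1]
    constructor
    · exact Or.inl
    · rintro (h | h)
      · exact h
      · exact absurd h.2 hx₁
  -- charts over `W0`
  have hA : ∀ x₁, φ x₁ ∈ W0 → ∃ (V : X₁.affineOpens) (c' : FChart (φ ≫ p) F' V), x₁ ∈ V.1 ∧
      Tor.mult c'.v < mu hCen h (φ x₁) := by
    intro x₁ hx₁
    obtain ⟨U', c', h3, h4, h5, h6⟩ := exists_centered_mu hCen hCmp h (φ x₁) ⟨W1ᶜ, hW1.isOpen_compl⟩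
      (fun h7 => h7.2 hx₁)
    obtain ⟨w, hw, hwg⟩ := (mem_Wg_iff hCmp ha0 ha1 c' h3 hx₁.1).1 hx₁
    have hJU' : J.ideal U' = Ideal.span {y | ∃ i, 0 < a (c'.lab i) ∧
        y = c'.ψ (Tor.mon K (c'.dat.mem i)) ^ e (c'.lab i)} := by
      rw [hJU U' (fun z hz => h4 hz), Scheme.IdealSheafData.ideal_iSup, iSup_apply]
      have key : ∀ l : {l // 0 < a l}, (F l.1 ^ e l.1).ideal U' ≤ Ideal.span {y | ∃ i, 0 < a (c'.lab i) ∧
          y = c'.ψ (Tor.mon K (c'.dat.mem i)) ^ e (c'.lab i)} := by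
        rintro ⟨l, hl⟩
        obtain ⟨i, rfl⟩ := mem_range_lab c' h3 (hx₁.1 l hl)
        rw [Scheme.IdealSheafData.ideal_pow, Pi.pow_apply, c'.ideal_lab i, Ideal.span_singleton_pow,
          Ideal.span_singleton_le_iff_mem]
        exact Ideal.subset_span ⟨i, hl, rfl⟩
      refine le_antisymm (iSup_le key) (Ideal.span_le.2 ?_)
      rintro _ ⟨i, hi, rfl⟩
      have h7 : c'.ψ (Tor.mon K (c'.dat.mem i)) ^ e (c'.lab i) ∈ (F (c'.lab i) ^ e (c'.lab i)).ideal U' := by
        rw [Scheme.IdealSheafData.ideal_pow, Pi.pow_apply, c'.ideal_lab i, Ideal.span_singleton_pow]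
        exact Ideal.mem_span_singleton_self _
      exact (le_iSup (fun l : {l // 0 < a l} => (F l.1 ^ e l.1).ideal U') ⟨c'.lab i, hi⟩) h7
    obtain ⟨V, hV, c₁, hc₁⟩ := hStar X X₁ p hX hn ι F φ J hφ a e F' h0 h1 h2 ⟨l₀, hl₀⟩ ha0 U' c' w c0
      (fun l hl => mem_range_lab c' h3 (hx₁.1 l hl)) hw hc0
      (fun i hi => by rw [hwg i hi]; exact_mod_cast heg _ hi) hJU' x₁ h3
    exact ⟨V, c₁, hV, by rw [h6]; exact hc₁⟩
  -- charts off `W0`
  have hB : ∀ x₁, φ x₁ ∉ W0 → ∃ (V : X₁.affineOpens) (c' : FChart (φ ≫ p) F' V), x₁ ∈ V.1 ∧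
      c'.Centered x₁ ∧ Tor.mult c'.v = mu hCen h (φ x₁) := by
    intro x₁ hx₁
    obtain ⟨U', c', h3, h4, h5, h6⟩ := exists_centered_mu hCen hCmp h (φ x₁) ⟨W0ᶜ, hW0.isOpen_compl⟩ hx₁
    have hle : U'.1 ≤ J.support.compl := fun z hz hzJ => h4 hz ((hJmem z).1 hzJ)
    have hiso : IsIso (φ ∣_ U'.1) := K588.Bir.isIso_restrict_le φ hle hφ.iso
    have hJtop : J.ideal U' = ⊤ := by
      have h7 : X.zeroLocus (U := U'.1) (J.ideal U') ∩ U'.1 = ∅ := by
        rw [← Scheme.IdealSheafData.coe_support_inter, hJs]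
        ext z
        simp only [Set.mem_inter_iff, Set.mem_empty_iff_false, iff_false, not_and]
        exact fun h1 h2 => h4 h2 h1
      rw [U'.2.ideal_ext_iff]
      intro z hz
      rw [← Groth.Agent.Divis.CartierBasic.stalkIdeal_eq J U' hz, Ideal.map_top,
        ← Groth.Agent.Divis.CartierBasic.notMem_support_iff_stalkIdeal_eq_top, hJmem]
      exact h4 hz
    obtain ⟨V, c₁, h7, h8, h9⟩ := StepB.exists_transport φ J U' hiso hJtop c' a e ha0 he he1 F' h0 h1 h2 x₁ h3 h5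
      (fun l hl => (hs2 l x₁ hx₁).2 hl)
    exact ⟨V, c₁, h7, h8, by rw [h9, h6]⟩
  have hch : HasCh (φ ≫ p) F' := fun x₁ => by
    by_cases hx₁ : φ x₁ ∈ W0
    · obtain ⟨V, c₁, h3, -⟩ := hA x₁ hx₁
      exact ⟨V, h3, ⟨c₁⟩⟩
    · obtain ⟨V, c₁, h3, -⟩ := hB x₁ hx₁
      exact ⟨V, h3, ⟨c₁⟩⟩
  have hcompl : ∀ z, z ∈ J.support.compl ↔ z ∉ W0 := fun z => by
    rw [← hJmem]; rfl
  exact ⟨{
    X₁ := X₁
    φ := φ
    F' := F'
    W := J.support.compl
    int := hφ.int
    h' := hch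
    notMem := by rw [hcompl]; exact fun h => h hxW
    ne := hφ.ne
    iso := hφ.iso
    normal := hφ.normal
    proj := hp₁
    lt := fun x₁ hx₁ => by
      rw [hcompl, not_not] at hx₁
      obtain ⟨V, c₁, h3, h4⟩ := hA x₁ hx₁
      exact (mu_le hCen hCmp hch c₁ h3).trans_lt h4
    eq := fun x₁ hx₁ => by
      rw [hcompl] at hx₁
      obtain ⟨V, c₁, h3, h4, h5⟩ := hB x₁ hx₁
      rw [mu_eq hCen hCmp hch c₁ h3 h4, h5]
    none_notMem := fun x₁ hx₁ => by
      rw [hcompl] at hx₁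
      rw [h0, mem_support_comap, hJmem]
      exact hx₁
    some_mem := fun x₁ l hx₁ => by
      rw [hcompl] at hx₁
      exact hs2 l x₁ hx₁
    supp_eq := by
      ext x₁
      rw [Set.mem_preimage, mem_supp, mem_supp]
      constructor
      · rintro ⟨l, hl⟩
        rcases (hs1 l x₁).1 hl with h3 | ⟨-, h3⟩
        · exact ⟨some l, h3⟩
        · exact ⟨none, by rw [h0, mem_support_comap, hJmem]; exact h3⟩
      · rintro ⟨o, ho⟩
        cases o with
        | none =>
          rw [h0, mem_support_comap, hJmem] at ho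
          exact ⟨l₀, ho.1 l₀ hl₀⟩
        | some l => exact ⟨l, (hs1 l x₁).2 (Or.inl ho)⟩ }⟩

end K84.StepC
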